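import Groth.Agent.LeadDev.Rules
import Groth.Prelude.Def_KZero
import Mathlib

/-!
# Generators of the Grothendieck group of coherent modules with support in a closed subset
-/

set_option autoImplicit false
set_option linter.style.haveILetI false

universe v u

open CategoryTheory CategoryTheory.Limits AlgebraicGeometry

namespace Groth.Agent.H27KZero

section Abelian

variable {A : Type u} [Category.{v} A] [Abelian A] {P : ObjectProperty A}

theorem clSub_shortExact {S : ShortComplex A} (hS : S.ShortExact) (h₁ : P S.X₁) (h₂ : P S.X₂) (h₃ : P S.X₃) :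
    KZero.clSub P S.X₂ = KZero.clSub P S.X₁ + KZero.clSub P S.X₃ := by
  rw [KZero.clSub, KZero.clSub, KZero.clSub, dif_pos h₁, dif_pos h₂, dif_pos h₃, eq_comm, ← QuotientAddGroup.mk_add,
    QuotientAddGroup.eq]
  exact AddSubgroup.subset_closure ⟨S, h₁, h₂, h₃, hS, by abel⟩

theorem clSub_zero {Z : A} (hZ : IsZero Z) (hPZ : P Z) : KZero.clSub P Z = 0 := by
  have hS : (ShortComplex.mk (0 : Z ⟶ Z) (𝟙 Z) zero_comp).ShortExact := by
    haveI : Mono (0 : Z ⟶ Z) := ⟨fun g h _ => hZ.eq_of_tgt g h⟩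
    exact ShortComplex.ShortExact.mk' ((ShortComplex.exact_iff_mono _ rfl).2 (inferInstanceAs (Mono (𝟙 Z))))
      inferInstance inferInstance
  simpa using clSub_shortExact hS hPZ hPZ hPZ

theorem clSub_iso {M N : A} (e : M ≅ N) (hM : P M) (hN : P N) {Z : A} (hZ : IsZero Z) (hPZ : P Z) :
    KZero.clSub P M = KZero.clSub P N := by
  have hS : (ShortComplex.mk (0 : Z ⟶ M) e.hom zero_comp).ShortExact := by
    haveI : Mono (0 : Z ⟶ M) := ⟨fun g h _ => hZ.eq_of_tgt g h⟩
    exact ShortComplex.ShortExact.mk' ((ShortComplex.exact_iff_mono _ rfl).2 (inferInstanceAs (Mono e.hom)))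
      inferInstance inferInstance
  simpa [clSub_zero hZ hPZ] using clSub_shortExact hS hPZ hM hN

theorem closure_eq_top (H : AddSubgroup (KZero.K0sub P)) (h : ∀ M, P M → KZero.clSub P M ∈ H) : H = ⊤ := by
  rw [eq_top_iff]
  rintro x -
  obtain ⟨x, rfl⟩ := QuotientAddGroup.mk_surjective x
  induction x using FreeAbelianGroup.induction_on with
  | zero => exact H.zero_mem
  | of M =>
    obtain ⟨M, hM⟩ := M
    have := h M hM
    rwa [KZero.clSub, dif_pos hM] at this
  | neg M hM => exact H.neg_mem hM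
  | add a b ha hb => exact H.add_mem ha hb

end Abelian

open LeadDev

theorem closure_generic_length_one (X : Scheme.{u}) [IsNoetherian X] (Y' : Set X) {ι : Type u} (F : ι → X.Modules)
    (hF : ∀ a : ι, Coh.IsCoh (F a) ∧ CohB1.support (F a) ⊆ Y')
    (hgen : ∀ (Z : Set X), IsClosed Z → IsIrreducible Z → Z ⊆ Y' → ∀ y : X, closure ({y} : Set X) = Z →
      ∃ a : ι, CohB1.support (F a) ⊆ Z ∧ Module.length (X.presheaf.stalk y) ((F a).presheaf.stalk y) = 1) :
    AddSubgroup.closure (Set.range fun a : ι =>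
        KZero.clSub (fun G : X.Modules => Coh.IsCoh G ∧ CohB1.support G ⊆ Y') (F a)) = ⊤ := by
  classical
  let Q : ObjectProperty X.Modules := fun G => Coh.IsCoh G ∧ CohB1.support G ⊆ Y'
  let H := AddSubgroup.closure (Set.range fun a : ι => KZero.clSub Q (F a))
  change H = ⊤
  obtain ⟨O, hO⟩ := HasZeroObject.zero (C := X.Modules)
  have hQO : Q O := ⟨isCoh_of_isZero hO, by rw [support_eq_empty_of_isZero hO]; exact Set.empty_subset _⟩
  let P : X.Modules → Prop := fun M => Q M → KZero.clSub Q M ∈ H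
  have hiso : ∀ M N : X.Modules, Nonempty (M ≅ N) → Coh.IsCoh M → P M → P N := fun M N ⟨e⟩ hMc hM hN => by
    have hM' : Q M := ⟨hMc, (support_subset_of_iso e).trans hN.2⟩
    rw [← clSub_iso e hM' hN hO hQO]
    exact hM hM'
  have h₀ : ∀ M : X.Modules, IsZero M → P M := fun M hM hMQ => by rw [clSub_zero hM hMQ]; exact H.zero_mem
  have hext : ∀ S : ShortComplex X.Modules, S.ShortExact → Coh.IsCoh S.X₁ → Coh.IsCoh S.X₂ → Coh.IsCoh S.X₃ →
      P S.X₁ → P S.X₃ → P S.X₂ := fun S hS h1 _ h3 p1 p3 hQ2 => by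
    haveI := hS.mono_f
    haveI := hS.epi_g
    have q1 : Q S.X₁ := ⟨h1, (support_subset_of_mono S.f).trans hQ2.2⟩
    have q3 : Q S.X₃ := ⟨h3, (support_subset_of_epi S.g).trans hQ2.2⟩
    rw [clSub_shortExact hS q1 hQ2 q3]
    exact H.add_mem (p1 q1) (p3 q3)
  -- coherence is carried along for isomorphism invariance
  let P' : X.Modules → Prop := fun M => Coh.IsCoh M → P M
  suffices h : ∀ M, Coh.IsCoh M → CohB1.support M ⊆ Y' → P' M from
    closure_eq_top H fun M hM => h M hM.1 hM.2 hM.1 hM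
  refine devissage_induction Y' P' (fun M N e hM hN hQN => ?_) (fun M hM _ => h₀ M hM)
    (fun S hS h1 h2 h3 p1 p3 _ => hext S hS h1 h2 h3 (p1 h1) (p3 h3)) ?_
  · have hMc : Coh.IsCoh M := by
      obtain ⟨e⟩ := e
      haveI : N.IsQuasicoherent := hN.1
      exact H10Coh.isCoh_of_mono e.hom (H10Coh.isQuasicoherent_of_iso e.symm) hN
    exact hiso M N e hMc (hM hMc) hQN
  intro Z i _ _ hr hsmall I ι₀ _ hI
  set ξ := i (genericPoint Z) with hξdef
  have hcl : closure ({ξ} : Set X) = Set.range i := (range_eq_closure i rfl).symm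
  obtain ⟨a, haC, hlen⟩ := hgen (Set.range i) i.isClosedEmbedding.isClosed_range
    (hcl ▸ isIrreducible_singleton.closure) hr ξ hcl
  obtain ⟨W, hW, hξW, -⟩ := exists_isAffineOpen_mem_and_subset (U := (⊤ : X.Opens)) (x := ξ) trivial
  obtain ⟨e⟩ := exists_residue_equiv hlen
  have hsupp : ξ ∈ CohB1.support (F a) := fun h => by
    haveI := nontrivial_of_residue e
    exact not_subsingleton ((F a).presheaf.stalk ξ) h
  have hPF : P' (F a) := fun _ _ => AddSubgroup.subset_closure ⟨a, rfl⟩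
  have hleft : ∀ S : ShortComplex X.Modules, S.ShortExact → Coh.IsCoh S.X₁ → Coh.IsCoh S.X₂ → Coh.IsCoh S.X₃ →
      CohB1.support S.X₂ ⊆ Set.range i → P' S.X₂ → P' S.X₃ → P' S.X₁ := fun S hS h1 h2 h3 hs p2 p3 _ q1 => by
    haveI := hS.epi_g
    have q2 : Q S.X₂ := ⟨h2, hs.trans hr⟩
    have q3 : Q S.X₃ := ⟨h3, (support_subset_of_epi S.g).trans (hs.trans hr)⟩
    have := clSub_shortExact hS q1 q2 q3
    rw [← sub_eq_iff_eq_add] at this
    rw [← this]
    exact H.sub_mem (p2 h2 q2) (p3 h3 q3)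
  obtain ⟨r, -, hcyc, hIc, hP⟩ := key_step i rfl I ι₀ hI P' (fun M hM _ => h₀ M hM) hsmall
    (fun S hS h1 h2 h3 _ p1 p3 _ => hext S hS h1 h2 h3 (p1 h1) (p3 h3)) hW hξW (F a) (hF a).1 hsupp
    (killedAt_of_residue hW hξW (hF a).1.1 e)
    (fun J hJ => exists_sub_of_left P' (Set.range i) (hF a).1 haC hPF hsmall hleft hW hξW J hJ)
  refine of_power_one (P := P') (fun M N e hM hN => ?_) (hcyc (cyclicAt_of_residue hW hξW (hF a).1.1 e)) hP
  have hMc : Coh.IsCoh M := by
    obtain ⟨e⟩ := e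
    haveI : N.IsQuasicoherent := hN.1
    exact H10Coh.isCoh_of_mono e.hom (H10Coh.isQuasicoherent_of_iso e.symm) hN
  exact hiso M N e hMc (hM hMc)

end Groth.Agent.H27KZero
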