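import Groth.Agent.H27KZero.Coherent
import Groth.Agent.H16Derived.KFlat.PerfNoeth
import Groth.Agent.H16Derived.KFlat.PerfTri
import Mathlib

/-!
# Perfect objects supported in a closed subset, when coherent modules there are perfect
-/

set_option autoImplicit false
set_option linter.style.haveILetI false

universe u

open CategoryTheory CategoryTheory.Limits AlgebraicGeometry Pretriangulated

attribute [local instance] HasDerivedCategory.standard

namespace Groth.Agent.H27KZero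

open H16Derived.KFlat.Stalk

variable {X : Scheme.{u}}

theorem isPerfect_of_iso' {K L : DCoh.D X} (e : K ≅ L) (h : DCoh.IsPerfect K) : DCoh.IsPerfect L := fun x => by
  obtain ⟨V, hx, hV⟩ := h x
  exact ⟨V, hx, fun F ⟨eF⟩ => hV F ⟨eF ≪≫ e.symm⟩⟩

variable [IsNoetherian X] (Y' : Set X)

theorem cohInBdd_iff_perfect (hperf : ∀ G : X.Modules, Coh.IsCoh G → CohB1.support G ⊆ Y' → DCoh.IsPerfect (DCoh.inD X G))
    (K : DCoh.D X) : (DCoh.IsPerfect K ∧ ∀ i : ℤ, CohB1.support (DCoh.HD K i) ⊆ Y') ↔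
      WSerre.cohInBdd (CohSupp Y') K := by
  refine ⟨fun ⟨h, hs⟩ => ?_, fun h => ⟨?_, fun i => (h.1 i).2⟩⟩
  · obtain ⟨hc, a, b, ha, hb⟩ := isCohD_and_bounded_of_isPerfect h
    exact ⟨fun i => ⟨hc i, hs i⟩, ⟨a, ha⟩, ⟨b, hb⟩⟩
  · refine H15Site.BddDevissage.induction_bounded (CohSupp Y') (fun K => DCoh.IsPerfect K) (fun e h => isPerfect_of_iso' e h)
      (fun K n h => isPerfect_shift h n) (fun T hT h₁ h₃ => ?_) (fun M hM => hperf M hM.1 hM.2) K h
    exact isPerfect_obj₃ (inv_rot_of_distTriang _ hT) (isPerfect_shift h₃ (-1)) h₁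

theorem exists_equiv_perfect (hperf : ∀ G : X.Modules, Coh.IsCoh G → CohB1.support G ⊆ Y' → DCoh.IsPerfect (DCoh.inD X G)) :
    ∃ φ : KZero.K0sub (fun G : X.Modules => Coh.IsCoh G ∧ CohB1.support G ⊆ Y') ≃+
        KZero.K0tr (fun K : DCoh.D X => DCoh.IsPerfect K ∧ ∀ i : ℤ, CohB1.support (DCoh.HD K i) ⊆ Y'),
      ∀ G : X.Modules, Coh.IsCoh G → CohB1.support G ⊆ Y' →
        φ (KZero.clSub (fun G : X.Modules => Coh.IsCoh G ∧ CohB1.support G ⊆ Y') G) =
          KZero.clTr (fun K : DCoh.D X => DCoh.IsPerfect K ∧ ∀ i : ℤ, CohB1.support (DCoh.HD K i) ⊆ Y')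
            (DCoh.inD X G) := by
  obtain ⟨φ, hφ⟩ := exists_equiv (C := CohSupp Y')
    (P := fun K : DCoh.D X => DCoh.IsPerfect K ∧ ∀ i : ℤ, CohB1.support (DCoh.HD K i) ⊆ Y')
    (cohInBdd_iff_perfect Y' hperf)
  exact ⟨φ, fun G hG hs => hφ G ⟨hG, hs⟩⟩

end Groth.Agent.H27KZero
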