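import Groth.Agent.H27KZero.Derived
import Groth.Agent.H10Coh.FinType2
import Groth.Agent.LeadDev.Filt
import Groth.Prelude.Def_DCoh2
import Groth.Agent.S2384
import Mathlib

/-!
# Coherent modules with support in a closed subset form a weak Serre subcategory
-/

set_option autoImplicit false
set_option linter.style.haveILetI false

universe u

open CategoryTheory CategoryTheory.Limits AlgebraicGeometry

namespace Groth.Agent.H27KZero

variable {X : Scheme.{u}}

theorem isCoh_of_iso [IsLocallyNoetherian X] {M N : X.Modules} (e : M ≅ N) (hM : Coh.IsCoh M) : Coh.IsCoh N := by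
  haveI : M.IsQuasicoherent := hM.1
  exact H10Coh.isCoh_of_mono e.inv (H10Coh.isQuasicoherent_of_iso e) hM

theorem isCoh_extension [IsLocallyNoetherian X] {S : ShortComplex X.Modules} (hS : S.ShortExact)
    (h₁ : Coh.IsCoh S.X₁) (h₃ : Coh.IsCoh S.X₃) : Coh.IsCoh S.X₂ := by
  refine (H10Coh.isCoh_iff_finite_sections _).mpr ⟨S2384.result S hS h₁.1 h₃.1, fun U hU => ?_⟩
  haveI : IsNoetherianRing Γ(X, U) := IsLocallyNoetherian.component_noetherian ⟨U, hU⟩
  haveI := ((H10Coh.isCoh_iff_finite_sections _).mp h₁).2 U hU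
  haveI := ((H10Coh.isCoh_iff_finite_sections _).mp h₃).2 U hU
  let f : Γ(S.X₁, U) →ₗ[Γ(X, U)] Γ(S.X₂, U) :=
    { toFun := S.f.app U, map_add' := map_add _, map_smul' := fun c x => Scheme.Modules.Hom.app_smul _ _ _ }
  let g : Γ(S.X₂, U) →ₗ[Γ(X, U)] Γ(S.X₃, U) :=
    { toFun := S.g.app U, map_add' := map_add _, map_smul' := fun c x => Scheme.Modules.Hom.app_smul _ _ _ }
  refine ⟨Submodule.fg_of_fg_map_of_fg_inf_ker g (IsNoetherian.noetherian _) ?_⟩
  rw [top_inf_eq]
  have hle : LinearMap.ker g = LinearMap.ker g ⊓ LinearMap.range f := by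
    refine (inf_eq_left.mpr fun z hz => ?_).symm
    obtain ⟨y, hy⟩ := H10Coh.exists_app_eq_of_exact hS U z hz
    exact ⟨y, hy⟩
  rw [hle]
  haveI : IsNoetherian Γ(X, U) ↥(LinearMap.range f) := isNoetherian_of_fg_of_noetherian _ (by
    rw [LinearMap.range_eq_map]
    exact (Module.Finite.fg_top).map f)
  have h := (IsNoetherian.noetherian ((LinearMap.ker g).comap (LinearMap.range f).subtype)).map (LinearMap.range f).subtype
  rwa [Submodule.map_comap_subtype, inf_comm] at h

variable [IsNoetherian X] (Y' : Set X)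

/-- coherent modules with support in `Y'` -/
def CohSupp : ObjectProperty X.Modules := fun G => Coh.IsCoh G ∧ CohB1.support G ⊆ Y'

instance : WSerre.IsWeakSerre (CohSupp Y') := by
  haveI : (CohSupp Y').ContainsZero := by
    obtain ⟨O, hO⟩ := HasZeroObject.zero (C := X.Modules)
    exact ⟨⟨O, hO, LeadDev.isCoh_of_isZero hO, by rw [LeadDev.support_eq_empty_of_isZero hO]; exact Set.empty_subset _⟩⟩
  haveI : (CohSupp Y').IsClosedUnderKernels := ⟨by
    intro K hK
    cases hK with
    | of_isLimit f k hk hf =>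
      haveI : Mono k.ι := Fork.IsLimit.mono hk
      exact ⟨isCoh_of_iso (hk.conePointUniqueUpToIso (limit.isLimit _)).symm (H10Coh.isCoh_kernel f hf.1.1 hf.2.1.1),
        (LeadDev.support_subset_of_mono k.ι).trans hf.1.2⟩⟩
  haveI : (CohSupp Y').IsClosedUnderCokernels := ⟨by
    intro K hK
    cases hK with
    | of_isColimit f k hk hf =>
      haveI : Epi k.π := Cofork.IsColimit.epi hk
      exact ⟨isCoh_of_iso ((colimit.isColimit _).coconePointUniqueUpToIso hk) (H10Coh.isCoh_cokernel f hf.1.1.1 hf.2.1),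
        (LeadDev.support_subset_of_epi k.π).trans hf.2.2⟩⟩
  haveI : (CohSupp Y').IsClosedUnderExtensions := ⟨fun hS h₁ h₃ => ⟨isCoh_extension hS h₁.1 h₃.1,
    (LeadDev.support_subset_of_shortExact hS).trans (Set.union_subset h₁.2 h₃.2)⟩⟩
  exact {}

end Groth.Agent.H27KZero
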