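import Groth.Prelude.Def_KZero
import Mathlib

/-!
# The exact sequence of `K₀` attached to a Serre class
-/

set_option autoImplicit false

universe v u v' u'

open CategoryTheory CategoryTheory.Limits
open scoped ZeroObject

namespace Groth.Agent.H27KZero.SerreSeq

variable {A : Type u} [Category.{v} A] [Abelian A]

theorem shortExact_of_kernel_cokernel {X : A} {Y : A} (f : X ⟶ Y) :
    (ShortComplex.mk (kernel.ι f) (Abelian.factorThruImage f)
      (by rw [← cancel_mono (Abelian.image.ι f)]; simp)).ShortExact := by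
  refine ShortComplex.ShortExact.mk' (ShortComplex.exact_of_f_is_kernel _ ?_) inferInstance inferInstance
  refine KernelFork.IsLimit.ofι' _ _ fun {W} g hg => ⟨kernel.lift f g ?_, kernel.lift_ι _ _ _⟩
  rw [← Abelian.image.fac f, ← Category.assoc, hg, zero_comp]

theorem shortExact_image (X : A) {Y : A} (f : X ⟶ Y) :
    (ShortComplex.mk (Abelian.image.ι f) (cokernel.π f) (kernel.condition _)).ShortExact :=
  ShortComplex.ShortExact.mk' (ShortComplex.exact_kernel (cokernel.π f)) inferInstance inferInstance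

theorem shortExact_of_iso {M N Z : A} (e : M ≅ N) (hZ : IsZero Z) :
    (ShortComplex.mk (0 : Z ⟶ M) e.hom zero_comp).ShortExact := by
  haveI : Mono (0 : Z ⟶ M) := ⟨fun g h _ => hZ.eq_of_tgt g h⟩
  exact ShortComplex.ShortExact.mk' ((ShortComplex.exact_iff_mono _ rfl).2 (inferInstanceAs (Mono e.hom)))
    inferInstance inferInstance

theorem shortExact_biprod_inl (X Y : A) :
    (ShortComplex.mk (biprod.inl : X ⟶ X ⊞ Y) biprod.snd biprod.inl_snd).ShortExact :=
  (ShortComplex.Splitting.ofHasBinaryBiproduct X Y).shortExact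

/-! ### The class map -/

theorem cl_shortExact {S : ShortComplex A} (hS : S.ShortExact) :
    KZero.cl S.X₂ = KZero.cl S.X₁ + KZero.cl S.X₃ := by
  have h : (FreeAbelianGroup.of S.X₂ - FreeAbelianGroup.of S.X₁ - FreeAbelianGroup.of S.X₃) ∈ KZero.relAb A :=
    AddSubgroup.subset_closure ⟨S, hS, rfl⟩
  have h' := (QuotientAddGroup.eq_zero_iff _).2 h
  rw [QuotientAddGroup.mk_sub, QuotientAddGroup.mk_sub, sub_sub, sub_eq_zero] at h'
  exact h'

theorem cl_zero {Z : A} (hZ : IsZero Z) : KZero.cl Z = 0 := by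
  have := cl_shortExact (shortExact_of_iso (Iso.refl Z) hZ)
  simpa using this

theorem cl_iso {M N : A} (e : M ≅ N) : KZero.cl M = KZero.cl N := by
  simpa [cl_zero (isZero_zero A)] using cl_shortExact (shortExact_of_iso e (isZero_zero A))

theorem cl_biprod (X Y : A) : KZero.cl (X ⊞ Y) = KZero.cl X + KZero.cl Y :=
  cl_shortExact (shortExact_biprod_inl X Y)

theorem cl_four_term {X Y : A} (f : X ⟶ Y) :
    KZero.cl X + KZero.cl (cokernel f) = KZero.cl Y + KZero.cl (kernel f) := by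
  have h1 : KZero.cl X = KZero.cl (kernel f) + KZero.cl (Abelian.image f) :=
    cl_shortExact (shortExact_of_kernel_cokernel f)
  have h2 : KZero.cl Y = KZero.cl (Abelian.image f) + KZero.cl (cokernel f) :=
    cl_shortExact (shortExact_image X f)
  rw [h1, h2]
  abel

/-- Homomorphisms out of `K₀`. -/
theorem exists_liftK0 {G : Type*} [AddCommGroup G] (c : A → G)
    (h : ∀ S : ShortComplex A, S.ShortExact → c S.X₂ = c S.X₁ + c S.X₃) :
    ∃ f : KZero.K0 A →+ G, ∀ X, f (KZero.cl X) = c X := by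
  refine ⟨QuotientAddGroup.lift _ (FreeAbelianGroup.lift c) ?_, fun X => ?_⟩
  · rw [KZero.relAb, AddSubgroup.closure_le]
    rintro _ ⟨S, hS, rfl⟩
    simp [h S hS]
  · simp [KZero.cl]

theorem closure_eq_top (H : AddSubgroup (KZero.K0 A)) (h : ∀ X, KZero.cl X ∈ H) : H = ⊤ := by
  rw [eq_top_iff]
  rintro x -
  obtain ⟨x, rfl⟩ := QuotientAddGroup.mk_surjective x
  induction x using FreeAbelianGroup.induction_on with
  | zero => exact H.zero_mem
  | of M => exact h M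
  | neg M hM => exact H.neg_mem hM
  | add a b ha hb => exact H.add_mem ha hb

/-! ### Classes in the Serre subcategory -/

section Sub

variable {P : ObjectProperty A}

theorem clSub_shortExact {S : ShortComplex A} (hS : S.ShortExact) (h₁ : P S.X₁) (h₂ : P S.X₂) (h₃ : P S.X₃) :
    KZero.clSub P S.X₂ = KZero.clSub P S.X₁ + KZero.clSub P S.X₃ := by
  have h : (FreeAbelianGroup.of (⟨S.X₂, h₂⟩ : Subtype P) - FreeAbelianGroup.of ⟨S.X₁, h₁⟩ -
      FreeAbelianGroup.of ⟨S.X₃, h₃⟩) ∈ KZero.relSub P :=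
    AddSubgroup.subset_closure ⟨S, h₁, h₂, h₃, hS, rfl⟩
  have h' := (QuotientAddGroup.eq_zero_iff _).2 h
  rw [QuotientAddGroup.mk_sub, QuotientAddGroup.mk_sub, sub_sub, sub_eq_zero] at h'
  simp only [KZero.clSub, dif_pos h₁, dif_pos h₂, dif_pos h₃]
  exact h'

variable [P.IsSerreClass]

theorem clSub_zero {Z : A} (hZ : IsZero Z) : KZero.clSub P Z = 0 := by
  simpa using clSub_shortExact (shortExact_of_iso (Iso.refl Z) hZ) (P.prop_of_isZero hZ) (P.prop_of_isZero hZ)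
    (P.prop_of_isZero hZ)

theorem clSub_iso {M N : A} (e : M ≅ N) (hM : P M) : KZero.clSub P M = KZero.clSub P N := by
  simpa [clSub_zero (isZero_zero A)] using clSub_shortExact (shortExact_of_iso e (isZero_zero A))
    (P.prop_of_isZero (isZero_zero A)) hM (P.prop_of_iso e hM)

theorem prop_biprod {X Y : A} (hX : P X) (hY : P Y) : P (X ⊞ Y) :=
  P.prop_X₂_of_shortExact (shortExact_biprod_inl X Y) hX hY

theorem clSub_biprod {X Y : A} (hX : P X) (hY : P Y) :
    KZero.clSub P (X ⊞ Y) = KZero.clSub P X + KZero.clSub P Y :=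
  clSub_shortExact (shortExact_biprod_inl X Y) hX (prop_biprod hX hY) hY

theorem exists_sub (x : KZero.K0sub P) :
    ∃ Y Z, P Y ∧ P Z ∧ x = KZero.clSub P Y - KZero.clSub P Z := by
  obtain ⟨x, rfl⟩ := QuotientAddGroup.mk_surjective x
  induction x using FreeAbelianGroup.induction_on with
  | zero =>
    exact ⟨0, 0, P.prop_of_isZero (isZero_zero A), P.prop_of_isZero (isZero_zero A), (sub_self _).symm⟩
  | of M =>
    refine ⟨M.1, 0, M.2, P.prop_of_isZero (isZero_zero A), ?_⟩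
    rw [clSub_zero (isZero_zero A), sub_zero, KZero.clSub, dif_pos M.2]
  | neg M hM =>
    obtain ⟨Y, Z, hY, hZ, h⟩ := hM
    exact ⟨Z, Y, hZ, hY, by rw [QuotientAddGroup.mk_neg, h, neg_sub]⟩
  | add a b ha hb =>
    obtain ⟨Y, Z, hY, hZ, h⟩ := ha
    obtain ⟨Y', Z', hY', hZ', h'⟩ := hb
    exact ⟨Y ⊞ Y', Z ⊞ Z', prop_biprod hY hY', prop_biprod hZ hZ', by
      rw [QuotientAddGroup.mk_add, h, h', clSub_biprod hY hY', clSub_biprod hZ hZ']; abel⟩

theorem exists_liftSub {G : Type*} [AddCommGroup G] (c : A → G)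
    (h : ∀ S : ShortComplex A, S.ShortExact → c S.X₂ = c S.X₁ + c S.X₃) :
    ∃ f : KZero.K0sub P →+ G, ∀ X, P X → f (KZero.clSub P X) = c X := by
  refine ⟨QuotientAddGroup.lift _ (FreeAbelianGroup.lift fun X : Subtype P => c X.1) ?_, fun X hX => ?_⟩
  · rw [KZero.relSub, AddSubgroup.closure_le]
    rintro _ ⟨S, h₁, h₂, h₃, hS, rfl⟩
    simp [h S hS]
  · simp [KZero.clSub, dif_pos hX]

end Sub

/-! ### When do two objects have the same class? -/

/-- `X ⊕ E ≅ Y ⊕ E'` for extensions `E`, `E'` with the same sub and quotient. -/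
def Rel (X Y : A) : Prop :=
  ∃ (S T : ShortComplex A), S.ShortExact ∧ T.ShortExact ∧ Nonempty (S.X₁ ≅ T.X₁) ∧ Nonempty (S.X₃ ≅ T.X₃) ∧
    Nonempty (X ⊞ S.X₂ ≅ Y ⊞ T.X₂)

/-- Exchange of the two middle summands. -/
noncomputable def swap4 (a b c d : A) : (a ⊞ b) ⊞ (c ⊞ d) ≅ (a ⊞ c) ⊞ (b ⊞ d) where
  hom := biprod.lift (biprod.map biprod.fst biprod.fst) (biprod.map biprod.snd biprod.snd)
  inv := biprod.lift (biprod.map biprod.fst biprod.fst) (biprod.map biprod.snd biprod.snd)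
  hom_inv_id := by ext <;> simp
  inv_hom_id := by ext <;> simp

theorem shortExact_biprod {S T : ShortComplex A} (hS : S.ShortExact) (hT : T.ShortExact) :
    (ShortComplex.mk (biprod.map S.f T.f) (biprod.map S.g T.g) (by ext <;> simp)).ShortExact := by
  haveI := hS.mono_f
  haveI := hT.mono_f
  haveI := hS.epi_g
  haveI := hT.epi_g
  haveI : Mono (biprod.map S.f T.f) := ⟨fun {W} g h e => by
    apply biprod.hom_ext
    · rw [← cancel_mono S.f]
      simpa using congrArg (fun k : W ⟶ S.X₂ ⊞ T.X₂ => k ≫ biprod.fst) e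
    · rw [← cancel_mono T.f]
      simpa using congrArg (fun k : W ⟶ S.X₂ ⊞ T.X₂ => k ≫ biprod.snd) e⟩
  haveI : Epi (biprod.map S.g T.g) := ⟨fun {W} g h e => by
    apply biprod.hom_ext'
    · rw [← cancel_epi S.g]
      simpa using congrArg (fun k : S.X₂ ⊞ T.X₂ ⟶ W => biprod.inl ≫ k) e
    · rw [← cancel_epi T.g]
      simpa using congrArg (fun k : S.X₂ ⊞ T.X₂ ⟶ W => biprod.inr ≫ k) e⟩
  refine ShortComplex.ShortExact.mk' (ShortComplex.exact_of_f_is_kernel _ ?_) inferInstance inferInstance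
  refine KernelFork.IsLimit.ofι' _ _ fun {W} g hg => ?_
  have h1 : (g ≫ biprod.fst) ≫ S.g = 0 := by
    simpa using congrArg (fun k : W ⟶ S.X₃ ⊞ T.X₃ => k ≫ biprod.fst) hg
  have h2 : (g ≫ biprod.snd) ≫ T.g = 0 := by
    simpa using congrArg (fun k : W ⟶ S.X₃ ⊞ T.X₃ => k ≫ biprod.snd) hg
  refine ⟨biprod.lift (hS.exact.lift _ h1) (hT.exact.lift _ h2), ?_⟩
  ext <;> simp

theorem Rel.refl (X : A) : Rel X X := by
  have h := shortExact_of_iso (Iso.refl (0 : A)) (isZero_zero A)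
  exact ⟨_, _, h, h, ⟨Iso.refl _⟩, ⟨Iso.refl _⟩, ⟨Iso.refl _⟩⟩

theorem Rel.symm {X Y : A} : Rel X Y → Rel Y X
  | ⟨S, T, hS, hT, ⟨a⟩, ⟨b⟩, ⟨e⟩⟩ => ⟨T, S, hT, hS, ⟨a.symm⟩, ⟨b.symm⟩, ⟨e.symm⟩⟩

/-- The biproduct of two short complexes. -/
noncomputable abbrev sum (S T : ShortComplex A) : ShortComplex A :=
  ShortComplex.mk (biprod.map S.f T.f) (biprod.map S.g T.g) (by ext <;> simp)

theorem Rel.trans {X Y Z : A} : Rel X Y → Rel Y Z → Rel X Z
  | ⟨S, T, hS, hT, ⟨a⟩, ⟨b⟩, ⟨e⟩⟩, ⟨S', T', hS', hT', ⟨a'⟩, ⟨b'⟩, ⟨e'⟩⟩ =>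
    ⟨sum S S', sum T T', shortExact_biprod hS hS', shortExact_biprod hT hT', ⟨biprod.mapIso a a'⟩,
      ⟨biprod.mapIso b b'⟩,
      ⟨(biprod.associator X S.X₂ S'.X₂).symm ≪≫ biprod.mapIso e (Iso.refl _) ≪≫
        biprod.associator Y T.X₂ S'.X₂ ≪≫
        biprod.mapIso (Iso.refl Y) (biprod.braiding _ _) ≪≫ (biprod.associator Y S'.X₂ T.X₂).symm ≪≫
        biprod.mapIso e' (Iso.refl _) ≪≫ biprod.associator Z T'.X₂ T.X₂ ≪≫
        biprod.mapIso (Iso.refl Z) (biprod.braiding _ _)⟩⟩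

theorem Rel.add {X Y X' Y' : A} : Rel X Y → Rel X' Y' → Rel (X ⊞ X') (Y ⊞ Y')
  | ⟨S, T, hS, hT, ⟨a⟩, ⟨b⟩, ⟨e⟩⟩, ⟨S', T', hS', hT', ⟨a'⟩, ⟨b'⟩, ⟨e'⟩⟩ =>
    ⟨sum S S', sum T T', shortExact_biprod hS hS', shortExact_biprod hT hT', ⟨biprod.mapIso a a'⟩,
      ⟨biprod.mapIso b b'⟩,
      ⟨swap4 _ _ _ _ ≪≫ biprod.mapIso e e' ≪≫ (swap4 _ _ _ _).symm⟩⟩

theorem Rel.of_iso {X Y : A} (e : X ≅ Y) : Rel X Y := by
  have h := shortExact_of_iso (Iso.refl (0 : A)) (isZero_zero A)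
  exact ⟨_, _, h, h, ⟨Iso.refl _⟩, ⟨Iso.refl _⟩, ⟨biprod.mapIso e (Iso.refl _)⟩⟩

theorem Rel.cancel {X Y W : A} : Rel (X ⊞ W) (Y ⊞ W) → Rel X Y
  | ⟨S, T, hS, hT, ⟨a⟩, ⟨b⟩, ⟨e⟩⟩ => by
    have hW := shortExact_of_iso (Iso.refl W) (isZero_zero A)
    exact ⟨sum (ShortComplex.mk (0 : (0 : A) ⟶ W) (Iso.refl W).hom zero_comp) S,
      sum (ShortComplex.mk (0 : (0 : A) ⟶ W) (Iso.refl W).hom zero_comp) T,
      shortExact_biprod hW hS, shortExact_biprod hW hT, ⟨biprod.mapIso (Iso.refl _) a⟩,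
      ⟨biprod.mapIso (Iso.refl _) b⟩,
      ⟨(biprod.associator X W S.X₂).symm ≪≫ e ≪≫ biprod.associator Y W T.X₂⟩⟩

theorem Rel.of_shortExact {S : ShortComplex A} (hS : S.ShortExact) : Rel S.X₂ (S.X₁ ⊞ S.X₃) :=
  ⟨_, S, shortExact_biprod_inl S.X₁ S.X₃, hS, ⟨Iso.refl _⟩, ⟨Iso.refl _⟩, ⟨biprod.braiding _ _⟩⟩

variable (A) in
/-- The setoid of `Rel`. -/
def relSetoid : Setoid A where
  r := Rel
  iseqv := ⟨Rel.refl, Rel.symm, Rel.trans⟩

variable (A) in
/-- The cancellative monoid of objects modulo `Rel`. -/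
def Mon : Type u := Quotient (relSetoid A)

/-- The class in `Mon`. -/
def Mon.mk (X : A) : Mon A := Quotient.mk (relSetoid A) X

noncomputable instance : Zero (Mon A) := ⟨Mon.mk 0⟩

noncomputable instance : Add (Mon A) :=
  ⟨Quotient.map₂ (fun X Y => X ⊞ Y) fun _ _ h _ _ h' => Rel.add h h'⟩

noncomputable instance : AddCommMonoid (Mon A) where
  add_assoc a b c := by
    induction a using Quotient.ind with | _ a =>
    induction b using Quotient.ind with | _ b =>
    induction c using Quotient.ind with | _ c =>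
    exact Quotient.sound (Rel.of_iso (biprod.associator a b c))
  zero_add a := by
    induction a using Quotient.ind with | _ a =>
    exact Quotient.sound (Rel.of_iso
      ⟨biprod.snd, biprod.inr, by
        apply biprod.hom_ext'
        · exact (isZero_zero A).eq_of_src _ _
        · simp, by simp⟩)
  add_zero a := by
    induction a using Quotient.ind with | _ a =>
    exact Quotient.sound (Rel.of_iso
      ⟨biprod.fst, biprod.inl, by
        apply biprod.hom_ext'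
        · simp
        · exact (isZero_zero A).eq_of_src _ _, by simp⟩)
  add_comm a b := by
    induction a using Quotient.ind with | _ a =>
    induction b using Quotient.ind with | _ b =>
    exact Quotient.sound (Rel.of_iso (biprod.braiding a b))
  nsmul := nsmulRec

instance : IsCancelAdd (Mon A) where
  add_left_cancel a b c h := by
    induction a using Quotient.ind with | _ a =>
    induction b using Quotient.ind with | _ b =>
    induction c using Quotient.ind with | _ c =>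
    exact Quotient.sound (Rel.cancel (((Rel.of_iso (biprod.braiding b a)).trans (Quotient.exact h)).trans
      (Rel.of_iso (biprod.braiding a c))))
  add_right_cancel a b c h := by
    induction a using Quotient.ind with | _ a =>
    induction b using Quotient.ind with | _ b =>
    induction c using Quotient.ind with | _ c =>
    exact Quotient.sound (Rel.cancel (Quotient.exact h))

/-- Objects with the same class in `K₀` are related. -/
theorem rel_of_cl_eq {X Y : A} (h : KZero.cl X = KZero.cl Y) : Rel X Y := by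
  obtain ⟨f, hf⟩ := exists_liftK0 (fun Z : A => Algebra.GrothendieckAddGroup.of (M := Mon A) (Mon.mk Z)) fun S hS => by
    rw [← map_add]
    exact congrArg _ (show Mon.mk S.X₂ = Mon.mk S.X₁ + Mon.mk S.X₃ from Quotient.sound (Rel.of_shortExact hS))
  have := congrArg f h
  rw [hf, hf] at this
  exact Quotient.exact (Algebra.GrothendieckAddGroup.of_injective (M := Mon A) this)

/-! ### Two-periodic complexes -/

section Periodic

variable {C E D : A} (a a' : C ⟶ E) (b b' : E ⟶ D)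

/-- The first differential. -/
noncomputable def per : E ⊞ (C ⊞ D) ⟶ E ⊞ (C ⊞ D) :=
  biprod.lift (biprod.snd ≫ biprod.fst ≫ a) (biprod.lift 0 (biprod.fst ≫ b'))

theorem per_comp (ha : a ≫ b = 0) : per a b' ≫ per a' b = 0 := by
  unfold per
  ext <;> simp [ha]

theorem homology_per [Mono a'] [Epi b'] (w : a ≫ b = 0) (h : per a b' ≫ per a' b = 0) :
    Nonempty ((ShortComplex.mk _ _ h).homology ≅ (ShortComplex.mk a b w).homology) := by
  let H := (ShortComplex.mk a b w).leftHomologyData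
  let i : H.K ⊞ D ⟶ E ⊞ (C ⊞ D) := biprod.lift (biprod.fst ≫ H.i) (biprod.lift 0 biprod.snd)
  have hw : H.i ≫ b = 0 := H.wi
  haveI : Mono i := ⟨fun {W} g g' e => by
    apply biprod.hom_ext
    · rw [← cancel_mono H.i]
      simpa [i] using congrArg (fun k : W ⟶ E ⊞ (C ⊞ D) => k ≫ biprod.fst) e
    · simpa [i] using congrArg (fun k : W ⟶ E ⊞ (C ⊞ D) => k ≫ biprod.snd ≫ biprod.snd) e⟩
  have wi : i ≫ per a' b = 0 := by
    unfold per
    ext <;> simp [i, hw]
  have hi : IsLimit (KernelFork.ofι i wi) := by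
    refine KernelFork.IsLimit.ofι' i wi fun {W} g hg => ?_
    have h1 : (g ≫ biprod.fst) ≫ b = 0 := by
      simpa [per] using congrArg (fun k : W ⟶ E ⊞ (C ⊞ D) => k ≫ biprod.snd ≫ biprod.snd) hg
    have h2 : g ≫ biprod.snd ≫ biprod.fst = 0 := by
      rw [← cancel_mono a', zero_comp]
      simpa [per] using congrArg (fun k : W ⟶ E ⊞ (C ⊞ D) => k ≫ biprod.fst) hg
    refine ⟨biprod.lift (H.liftK _ h1) (g ≫ biprod.snd ≫ biprod.snd), ?_⟩
    ext
    · simp [i]
    · simp [i, h2]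
    · simp [i]
  have hf : (hi.lift (KernelFork.ofι (per a b') h) : E ⊞ (C ⊞ D) ⟶ H.K ⊞ D) =
      biprod.lift (biprod.snd ≫ biprod.fst ≫ H.f') (biprod.fst ≫ b') := by
    rw [← cancel_mono i]
    refine (hi.fac (KernelFork.ofι (per a b') h) WalkingParallelPair.zero).trans ?_
    change per a b' = biprod.lift _ _ ≫ i
    simp only [per, i]
    ext <;> simp
  have wπ : (hi.lift (KernelFork.ofι (per a b') h) : E ⊞ (C ⊞ D) ⟶ H.K ⊞ D) ≫ biprod.fst ≫ H.π = 0 := by
    rw [hf, biprod.lift_fst_assoc, Category.assoc, Category.assoc, H.f'_π, comp_zero, comp_zero]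
  haveI : Epi (biprod.fst ≫ H.π : H.K ⊞ D ⟶ H.H) := epi_comp _ _
  let D' : (ShortComplex.mk _ _ h).LeftHomologyData :=
    { K := H.K ⊞ D
      H := H.H
      i := i
      π := biprod.fst ≫ H.π
      wi := wi
      hi := hi
      wπ := wπ
      hπ := by
        refine CokernelCofork.IsColimit.ofπ' _ wπ fun {W} k hk => ?_
        rw [hf] at hk
        have h1 : biprod.inr ≫ k = 0 := by
          rw [← cancel_epi b', comp_zero]
          have := congrArg (fun m : E ⊞ (C ⊞ D) ⟶ W => biprod.inl ≫ m) hk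
          rw [comp_zero, ← Category.assoc] at this
          rw [show (biprod.inl : E ⟶ E ⊞ (C ⊞ D)) ≫ biprod.lift (biprod.snd ≫ biprod.fst ≫ H.f')
            (biprod.fst ≫ b') = b' ≫ biprod.inr by ext <;> simp, Category.assoc] at this
          exact this
        have h2 : H.f' ≫ biprod.inl ≫ k = 0 := by
          have := congrArg (fun m : E ⊞ (C ⊞ D) ⟶ W => (biprod.inl ≫ biprod.inr) ≫ m) hk
          rw [comp_zero, ← Category.assoc] at this
          rw [show ((biprod.inl : C ⟶ C ⊞ D) ≫ (biprod.inr : C ⊞ D ⟶ E ⊞ (C ⊞ D))) ≫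
            biprod.lift (biprod.snd ≫ biprod.fst ≫ H.f')
              (biprod.fst ≫ b') = H.f' ≫ biprod.inl by ext <;> simp, Category.assoc] at this
          exact this
        refine ⟨H.descH (biprod.inl ≫ k) h2, ?_⟩
        refine biprod.hom_ext' _ _ ?_ ?_
        · simp
        · simp [h1] }
  exact ⟨D'.homologyIso ≪≫ H.homologyIso.symm⟩

end Periodic

/-- The class of homology. -/
theorem cl_homology (S : ShortComplex A) :
    KZero.cl S.homology + KZero.cl S.X₁ = KZero.cl (kernel S.g) + KZero.cl (kernel S.f) := by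
  have h := cl_four_term S.toCycles
  have e1 : KZero.cl (cokernel S.toCycles) = KZero.cl S.homology :=
    cl_iso ((cokernelIsCokernel S.toCycles).coconePointUniqueUpToIso S.homologyIsCokernel)
  have e2 : KZero.cl (kernel S.toCycles) = KZero.cl (kernel S.f) :=
    cl_iso ((kernelCompMono S.toCycles S.iCycles).symm ≪≫ kernelIsoOfEq S.toCycles_i)
  rw [e1, e2, cl_iso S.cyclesIsoKernel] at h
  rw [← h, add_comm]

/-- The homology of an exact sequence plus an object in the middle. -/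
theorem homology_add (P₁ : A) (S : ShortComplex A) (hS : S.ShortExact)
    (w : (S.f ≫ biprod.inr : S.X₁ ⟶ P₁ ⊞ S.X₂) ≫ biprod.snd ≫ S.g = 0) :
    Nonempty ((ShortComplex.mk (S.f ≫ biprod.inr : S.X₁ ⟶ P₁ ⊞ S.X₂) (biprod.snd ≫ S.g) w).homology ≅ P₁) := by
  haveI := hS.mono_f
  let i : P₁ ⊞ S.X₁ ⟶ P₁ ⊞ S.X₂ := biprod.map (𝟙 P₁) S.f
  haveI : Mono i := ⟨fun {W} g g' e => by
    apply biprod.hom_ext
    · simpa [i] using congrArg (fun k : W ⟶ P₁ ⊞ S.X₂ => k ≫ biprod.fst) e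
    · rw [← cancel_mono S.f]
      simpa [i] using congrArg (fun k : W ⟶ P₁ ⊞ S.X₂ => k ≫ biprod.snd) e⟩
  have wi : i ≫ biprod.snd ≫ S.g = 0 := by simp [i]
  have hi : IsLimit (KernelFork.ofι i wi) := KernelFork.IsLimit.ofι' i wi fun {W} g hg => by
    refine ⟨biprod.lift (g ≫ biprod.fst) (hS.exact.lift (g ≫ biprod.snd) (by simpa using hg)), ?_⟩
    ext <;> simp [i]
  have hf : (hi.lift (KernelFork.ofι _ w) : S.X₁ ⟶ P₁ ⊞ S.X₁) = biprod.inr := by
    rw [← cancel_mono i]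
    refine (hi.fac (KernelFork.ofι _ w) WalkingParallelPair.zero).trans ?_
    simp [i]
  have wπ : (hi.lift (KernelFork.ofι _ w) : S.X₁ ⟶ P₁ ⊞ S.X₁) ≫ biprod.fst = 0 := by rw [hf]; exact biprod.inr_fst
  let D' : (ShortComplex.mk (S.f ≫ biprod.inr : S.X₁ ⟶ P₁ ⊞ S.X₂) (biprod.snd ≫ S.g) w).LeftHomologyData :=
    { K := P₁ ⊞ S.X₁
      H := P₁
      i := i
      π := biprod.fst
      wi := wi
      hi := hi
      wπ := wπ
      hπ := CokernelCofork.IsColimit.ofπ' _ wπ fun {W} k hk => by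
        rw [hf] at hk
        refine ⟨biprod.inl ≫ k, biprod.hom_ext' _ _ ?_ ?_⟩
        · exact biprod.inl_fst_assoc _
        · exact (biprod.inr_fst_assoc _).trans (zero_comp.trans hk.symm) }
  exact ⟨D'.homologyIso⟩

section Main

variable (P : ObjectProperty A) [P.IsSerreClass]

/-- An element of `K₀(P)` killed in `K₀(A)` comes from a two-periodic complex. -/
theorem exists_periodic_of_eq_zero (ι : KZero.K0sub P →+ KZero.K0 A)
    (hι : ∀ X : A, P X → ι (KZero.clSub P X) = KZero.cl X) (x : KZero.K0sub P) (hx : ι x = 0) :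
    ∃ (M : A) (φ ψ : M ⟶ M) (h₁ : φ ≫ ψ = 0) (h₂ : ψ ≫ φ = 0),
      P (ShortComplex.mk φ ψ h₁).homology ∧ P (ShortComplex.mk ψ φ h₂).homology ∧
      x = KZero.clSub P (ShortComplex.mk φ ψ h₁).homology - KZero.clSub P (ShortComplex.mk ψ φ h₂).homology := by
  obtain ⟨Y, Z, hY, hZ, rfl⟩ := exists_sub x
  rw [map_sub, hι Y hY, hι Z hZ, sub_eq_zero] at hx
  obtain ⟨S, T, hS, hT, ⟨a⟩, ⟨b⟩, ⟨e⟩⟩ := rel_of_cl_eq hx
  haveI := hS.mono_f
  haveI := hS.epi_g
  haveI := hT.mono_f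
  haveI := hT.epi_g
  let a₁ : S.X₁ ⟶ Y ⊞ S.X₂ := S.f ≫ biprod.inr
  let b₁ : Y ⊞ S.X₂ ⟶ S.X₃ := biprod.snd ≫ S.g
  let a₂ : S.X₁ ⟶ Y ⊞ S.X₂ := a.hom ≫ T.f ≫ biprod.inr ≫ e.inv
  let b₂ : Y ⊞ S.X₂ ⟶ S.X₃ := e.hom ≫ biprod.snd ≫ T.g ≫ b.inv
  have w₁ : a₁ ≫ b₁ = 0 := by simp [a₁, b₁]
  have w₂ : a₂ ≫ b₂ = 0 := by simp [a₂, b₂]
  have wT : (T.f ≫ biprod.inr : T.X₁ ⟶ Z ⊞ T.X₂) ≫ biprod.snd ≫ T.g = 0 := by simp
  haveI : Mono a₁ := mono_comp _ _
  haveI : Epi b₁ := epi_comp _ _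
  haveI : Mono a₂ := mono_comp _ _
  haveI : Epi b₂ := epi_comp _ _
  have h₁ := per_comp a₁ a₂ b₁ b₂ w₁
  have h₂ := per_comp a₂ a₁ b₂ b₁ w₂
  obtain ⟨i₁⟩ := homology_per a₁ a₂ b₁ b₂ w₁ h₁
  obtain ⟨j₁⟩ := homology_add Y S hS w₁
  obtain ⟨i₂⟩ := homology_per a₂ a₁ b₂ b₁ w₂ h₂
  obtain ⟨j₂⟩ := homology_add Z T hT wT
  let c : ShortComplex.mk a₂ b₂ w₂ ≅ ShortComplex.mk (T.f ≫ biprod.inr : T.X₁ ⟶ Z ⊞ T.X₂) (biprod.snd ≫ T.g) wT :=
    ShortComplex.isoMk a e b (by simp [a₂]) (by simp [b₂])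
  let k₁ := i₁ ≪≫ j₁
  let k₂ := i₂ ≪≫ ShortComplex.homologyMapIso c ≪≫ j₂
  exact ⟨_, _, _, h₁, h₂, P.prop_of_iso k₁.symm hY, P.prop_of_iso k₂.symm hZ,
    by rw [clSub_iso k₁.symm hY, clSub_iso k₂.symm hZ]⟩

variable {Q : Type u'} [Category.{v'} Q] [Abelian Q] (L : A ⥤ Q) [L.IsLocalization P.isoModSerre]
  [L.Additive] [PreservesFiniteLimits L] [PreservesFiniteColimits L]

/-- Exactness at `K₀(A)`. -/
theorem exists_quotient_map (ι : KZero.K0sub P →+ KZero.K0 A)
    (hι : ∀ X : A, P X → ι (KZero.clSub P X) = KZero.cl X) :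
    ∃ μ : KZero.K0 Q →+ KZero.K0 A ⧸ ι.range, ∀ X : A, μ (KZero.cl (L.obj X)) = QuotientAddGroup.mk (KZero.cl X) := by
  haveI := Localization.essSurj L P.isoModSerre
  have hmem : ∀ X : A, P X → (QuotientAddGroup.mk (KZero.cl X) : KZero.K0 A ⧸ ι.range) = 0 :=
    fun X hX => (QuotientAddGroup.eq_zero_iff _).2 ⟨_, hι X hX⟩
  have hW : ∀ {X Y : A} (f : X ⟶ Y), P.isoModSerre f →
      (QuotientAddGroup.mk (KZero.cl X) : KZero.K0 A ⧸ ι.range) = QuotientAddGroup.mk (KZero.cl Y) := by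
    intro X Y f hf
    have h := congrArg (QuotientAddGroup.mk' ι.range) (cl_four_term f)
    simp only [map_add, QuotientAddGroup.mk'_apply, hmem _ hf.1, hmem _ hf.2, add_zero] at h
    exact h
  have hI : ∀ {X Y : A}, (L.obj X ≅ L.obj Y) →
      (QuotientAddGroup.mk (KZero.cl X) : KZero.K0 A ⧸ ι.range) = QuotientAddGroup.mk (KZero.cl Y) := by
    intro X Y e
    obtain ⟨φ, hφ⟩ := Localization.exists_rightFraction L P.isoModSerre e.hom
    haveI := Localization.inverts L P.isoModSerre φ.s φ.hs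
    have hf : L.map φ.f = L.map φ.s ≫ e.hom := by rw [hφ, MorphismProperty.RightFraction.map_s_comp_map]
    have : IsIso (L.map φ.f) := hf ▸ inferInstance
    rw [← hW φ.s φ.hs, hW φ.f ((ObjectProperty.SerreClassLocalization.isIso_map_iff L P φ.f).1 this)]
  obtain ⟨μ, hμ⟩ := exists_liftK0 (fun Y : Q =>
      (QuotientAddGroup.mk (KZero.cl (L.objPreimage Y)) : KZero.K0 A ⧸ ι.range)) fun S hS => by
    haveI := hS.epi_g
    obtain ⟨φ, hφ⟩ := Localization.exists_rightFraction L P.isoModSerre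
      ((L.objObjPreimageIso S.X₂).hom ≫ S.g ≫ (L.objObjPreimageIso S.X₃).inv)
    haveI := Localization.inverts L P.isoModSerre φ.s φ.hs
    have hf : L.map φ.f = L.map φ.s ≫ (L.objObjPreimageIso S.X₂).hom ≫ S.g ≫ (L.objObjPreimageIso S.X₃).inv := by
      rw [hφ, MorphismProperty.RightFraction.map_s_comp_map]
    haveI hepi : Epi (L.map φ.f) := hf ▸ inferInstance
    have hc : P (cokernel φ.f) := (ObjectProperty.SerreClassLocalization.epi_map_iff L P φ.f).1 hepi
    let e₂ : L.obj φ.X' ≅ S.X₂ := asIso (L.map φ.s) ≪≫ L.objObjPreimageIso S.X₂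
    have sq : L.map φ.f ≫ (L.objObjPreimageIso S.X₃).hom = e₂.hom ≫ S.g := by simp [hf, e₂]
    let e₁ : L.obj (kernel φ.f) ≅ L.obj (L.objPreimage S.X₁) :=
      PreservesKernel.iso L φ.f ≪≫ kernel.mapIso _ _ e₂ (L.objObjPreimageIso S.X₃) sq ≪≫
        (kernelIsKernel S.g).conePointUniqueUpToIso hS.fIsKernel ≪≫ (L.objObjPreimageIso S.X₁).symm
    have h := congrArg (QuotientAddGroup.mk' ι.range) (cl_four_term φ.f)
    simp only [map_add, QuotientAddGroup.mk'_apply, hmem _ hc, add_zero] at h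
    rw [← hW φ.s φ.hs, h, hI e₁, add_comm]
  exact ⟨μ, fun X => (hμ _).trans (hI (L.objObjPreimageIso (L.obj X)))⟩

end Main

end Groth.Agent.H27KZero.SerreSeq
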