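import Groth.Agent.H27KZero.Derived
import Groth.Agent.H4DR.TorAmp.Perfect
import Groth.Agent.H8Props.PseudoCoh.Koszul
import Groth.Agent.H29Slice.KoszulReg
import Groth.Prelude.Def_DRing2
import Groth.Prelude.Def_Koszul
import Mathlib

/-!
# Perfect complexes supported at the closed point of a regular local ring
-/

set_option autoImplicit false
set_option linter.style.haveILetI false

universe u

open CategoryTheory CategoryTheory.Limits Pretriangulated

attribute [local instance] HasDerivedCategory.standard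

namespace Groth.Agent.H27KZero.Local

variable (R : Type u) [CommRing R]

/-- modules of finite length -/
def FinLen : ObjectProperty (ModuleCat.{u} R) := fun M => IsFiniteLength R M

variable {R}

theorem finLen_of_exact {S : ShortComplex (ModuleCat.{u} R)} (hS : S.ShortExact) (h₁ : FinLen R S.X₁)
    (h₃ : FinLen R S.X₃) : FinLen R S.X₂ := by
  change IsFiniteLength R S.X₂
  rw [isFiniteLength_iff_isNoetherian_isArtinian]
  obtain ⟨_, _⟩ := isFiniteLength_iff_isNoetherian_isArtinian.mp h₁
  obtain ⟨_, _⟩ := isFiniteLength_iff_isNoetherian_isArtinian.mp h₃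
  have hf : Function.Injective S.f.hom := (ModuleCat.mono_iff_injective _).mp hS.mono_f
  have hg : Function.Surjective S.g.hom := (ModuleCat.epi_iff_surjective _).mp hS.epi_g
  have he : LinearMap.range S.f.hom = LinearMap.ker S.g.hom := hS.exact.moduleCat_range_eq_ker
  exact ⟨isNoetherian_of_range_eq_ker S.f.hom S.g.hom he,
    isArtinian_of_range_eq_ker S.f.hom S.g.hom he⟩

instance : WSerre.IsWeakSerre (FinLen R) := by
  haveI : (FinLen R).ContainsZero := ⟨⟨ModuleCat.of R PUnit.{u+1}, ModuleCat.isZero_of_subsingleton _,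
    IsFiniteLength.of_subsingleton⟩⟩
  haveI : (FinLen R).IsClosedUnderKernels := ⟨by
    intro K hK
    cases hK with
    | of_isLimit f k hk hf =>
      haveI : Mono k.ι := Fork.IsLimit.mono hk
      exact hf.1.of_injective ((ModuleCat.mono_iff_injective k.ι).mp inferInstance)⟩
  haveI : (FinLen R).IsClosedUnderCokernels := ⟨by
    intro K hK
    cases hK with
    | of_isColimit f k hk hf =>
      haveI : Epi k.π := Cofork.IsColimit.epi hk
      exact hf.2.of_surjective ((ModuleCat.epi_iff_surjective k.π).mp inferInstance)⟩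
  haveI : (FinLen R).IsClosedUnderExtensions := ⟨fun hS h₁ h₃ => finLen_of_exact hS h₁ h₃⟩
  exact {}

variable [IsNoetherianRing R] [IsLocalRing R]

theorem support_quotient_maximal :
    Module.support R (R ⧸ IsLocalRing.maximalIdeal R) ⊆ {IsLocalRing.closedPoint R} := by
  intro p hp
  rw [Module.support_eq_zeroLocus, Ideal.annihilator_quotient] at hp
  have := (IsLocalRing.maximalIdeal.isMaximal R).eq_of_le p.2.ne_top hp
  exact PrimeSpectrum.ext this.symm

theorem exists_quot_maximal {M : Type u} [AddCommGroup M] [Module R M] [IsSimpleModule R M] :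
    Nonempty (M ≃ₗ[R] R ⧸ IsLocalRing.maximalIdeal R) := by
  obtain ⟨I, hI, e⟩ := isSimpleModule_iff_quot_maximal.mp ‹IsSimpleModule R M›
  rwa [IsLocalRing.eq_maximalIdeal hI] at e

theorem support_of_finLen {M : Type u} [AddCommGroup M] [Module R M] (h : IsFiniteLength R M) :
    Module.support R M ⊆ {IsLocalRing.closedPoint R} := by
  induction h with
  | of_subsingleton => simp [Module.support_eq_empty]
  | @of_simple_quotient M _ _ N _ _ ih =>
    rw [Module.support_of_exact (LinearMap.exact_subtype_mkQ N) N.subtype_injective N.mkQ_surjective]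
    obtain ⟨e⟩ := exists_quot_maximal (R := R) (M := M ⧸ N)
    exact Set.union_subset ih (e.support_eq.le.trans support_quotient_maximal)

theorem finLen_iff {M : Type u} [AddCommGroup M] [Module R M] :
    IsFiniteLength R M ↔ Module.Finite R M ∧ Module.support R M ⊆ {IsLocalRing.closedPoint R} := by
  refine ⟨fun h => ⟨?_, support_of_finLen h⟩, fun ⟨hM, hs⟩ => ?_⟩
  · obtain ⟨_, _⟩ := isFiniteLength_iff_isNoetherian_isArtinian.mp h
    infer_instance
  · revert hs
    refine IsNoetherianRing.induction_on_isQuotientEquivQuotientPrime R hM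
      (motive := fun N _ _ _ => Module.support R N ⊆ {IsLocalRing.closedPoint R} → IsFiniteLength R N)
      (fun N _ _ _ _ _ => .of_subsingleton) (fun N _ _ _ p e hs => ?_)
      (fun N₁ _ _ _ N₂ _ _ _ N₃ _ _ _ f g hf hg he h₁ h₃ hs => ?_)
    · have hp : p ∈ Module.support R (R ⧸ p.1) := by
        rw [Module.support_eq_zeroLocus, Ideal.annihilator_quotient]
        exact le_refl (p.asIdeal : Set R)
      have := Set.mem_singleton_iff.mp (hs (e.symm.support_eq ▸ hp))
      have hm : p.1 = IsLocalRing.maximalIdeal R := congrArg PrimeSpectrum.asIdeal this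
      haveI : IsSimpleModule R (R ⧸ p.1) :=
        isSimpleModule_iff_quot_maximal.mpr ⟨p.1, hm ▸ IsLocalRing.maximalIdeal.isMaximal R, ⟨.refl R _⟩⟩
      exact e.symm.isFiniteLength (isFiniteLength_iff_isNoetherian_isArtinian.mpr ⟨inferInstance, inferInstance⟩)
    · rw [Module.support_of_exact he hf hg, Set.union_subset_iff] at hs
      have a₁ := h₁ hs.1
      have a₃ := h₃ hs.2
      rw [isFiniteLength_iff_isNoetherian_isArtinian] at a₁ a₃ ⊢
      obtain ⟨_, _⟩ := a₁
      obtain ⟨_, _⟩ := a₃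
      exact ⟨isNoetherian_of_range_eq_ker f g he.linearMap_ker_eq.symm,
        isArtinian_of_range_eq_ker f g he.linearMap_ker_eq.symm⟩

omit [IsLocalRing R] in
theorem finite_homology (E : DRing.Cx R) (hE : DRing.TermwiseFiniteProjective E) (i : ℤ) :
    Module.Finite R (Dual.HD R (DRing.toD E) i) := by
  haveI := fun j => (hE j).1
  let Sc := E.sc' (i - 1) i (i + 1)
  haveI : Module.Finite R Sc.X₂ := (hE i).1
  haveI : IsNoetherian R Sc.X₂ := isNoetherian_of_isNoetherianRing_of_finite R _
  haveI : Module.Finite R Sc.moduleCatLeftHomologyData.H :=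
    inferInstanceAs (Module.Finite R (LinearMap.ker Sc.g.hom ⧸ LinearMap.range Sc.moduleCatToCycles))
  exact Module.Finite.equiv ((DerivedCategory.homologyFunctorFactors (ModuleCat.{u} R) i).app E ≪≫
    E.homologyIsoSc' (i - 1) i (i + 1) (by simp) (by simp) ≪≫ Sc.moduleCatHomologyIso).toLinearEquiv.symm

omit [IsNoetherianRing R] [IsLocalRing R] in
theorem bounded_of_perfect {K : Dual.D R} (h : DRing.IsPerfect R K) :
    (∃ a, DerivedCategory.TStructure.t.IsGE K a) ∧ ∃ b, DerivedCategory.TStructure.t.IsLE K b := by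
  obtain ⟨E, a, b, hE, -, ⟨e⟩⟩ := h
  have hz : ∀ i, i < a ∨ b < i → IsZero (E.homology i) := fun i hi =>
    (HomologicalComplex.exactAt_iff_isZero_homology _ _).mp (HomologicalComplex.ExactAt.of_isZero (hE i hi))
  haveI : (DRing.toD E).IsGE a := (DerivedCategory.isGE_Q_obj_iff _ _).mpr
    ((CochainComplex.isGE_iff _ _).mpr fun i hi =>
      (HomologicalComplex.exactAt_iff_isZero_homology _ _).mpr (hz i (Or.inl hi)))
  haveI : (DRing.toD E).IsLE b := (DerivedCategory.isLE_Q_obj_iff _ _).mpr
    ((CochainComplex.isLE_iff _ _).mpr fun i hi =>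
      (HomologicalComplex.exactAt_iff_isZero_homology _ _).mpr (hz i (Or.inr hi)))
  exact ⟨⟨a, DerivedCategory.TStructure.t.isGE_of_iso e a⟩, ⟨b, DerivedCategory.TStructure.t.isLE_of_iso e b⟩⟩

omit [IsLocalRing R] in
theorem koszul_perfect (fs : List R) : DRing.IsPerfect R (DRing.toD (Koszul.koszul R fs)) :=
  ⟨_, _, 0, fun i hi => H8Props.PseudoCoh.koszul_isZero fs i hi, fun i =>
    ⟨(H8Props.PseudoCoh.koszul_finite_free fs i).1,
      haveI := (H8Props.PseudoCoh.koszul_finite_free fs i).2; inferInstance⟩, ⟨Iso.refl _⟩⟩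

omit [IsLocalRing R] in
theorem koszul_iso (fs : List R) (hreg : RingTheory.Sequence.IsRegular R fs) :
    Nonempty (DRing.toD (Koszul.koszul R fs) ≅ Dual.inD R (R ⧸ Ideal.ofList fs)) := by
  have hk := H29Slice.isKoszulRegular_of_isWeaklyRegular hreg.toIsWeaklyRegular
  let E := Koszul.koszul R fs
  obtain ⟨ε, hε⟩ := H8Props.PseudoCoh.koszul_zero fs
  haveI := ModuleCat.subsingleton_of_isZero (H8Props.PseudoCoh.koszul_isZero fs 1 (Or.inr one_pos))
  let Sc := E.sc' (-1) 0 1
  let q : LinearMap.ker Sc.g.hom →ₗ[R] R ⧸ Ideal.ofList fs :=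
    (Submodule.mkQ (Ideal.ofList fs)) ∘ₗ ε.toLinearMap ∘ₗ (LinearMap.ker Sc.g.hom).subtype
  have hq : Function.Surjective q := fun y => by
    obtain ⟨a, rfl⟩ := Submodule.Quotient.mk_surjective _ y
    exact ⟨⟨ε.symm a, Subsingleton.elim (α := (Koszul.koszul R fs).X 1) _ _⟩,
      congrArg (Submodule.mkQ (Ideal.ofList fs)) (ε.apply_symm_apply a)⟩
  let e := (Submodule.quotEquivOfEq (LinearMap.range Sc.moduleCatToCycles) (LinearMap.ker q) (by
      ext z
      rw [LinearMap.mem_ker]
      show z ∈ LinearMap.range Sc.moduleCatToCycles ↔ Submodule.Quotient.mk (ε z.1) = 0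
      rw [Submodule.Quotient.mk_eq_zero, ← hε]
      exact ⟨fun ⟨w, hw⟩ => ⟨z.1, ⟨w, congrArg Subtype.val hw⟩, rfl⟩,
        fun ⟨v, ⟨w, hw⟩, hvz⟩ => ⟨w, Subtype.ext (hw.trans (ε.injective hvz))⟩⟩)).trans
    (q.quotKerEquivOfSurjective hq)
  let h0 : (DerivedCategory.homologyFunctor (ModuleCat.{u} R) 0).obj (DRing.toD E) ≅ ModuleCat.of R (R ⧸ Ideal.ofList fs) :=
    (DerivedCategory.homologyFunctorFactors (ModuleCat.{u} R) 0).app E ≪≫
      E.homologyIsoSc' (-1) 0 1 (by simp) (by simp) ≪≫ Sc.moduleCatHomologyIso ≪≫ e.toModuleIso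
  have hz : ∀ i, i ≠ 0 → E.ExactAt i := fun i hi =>
    (HomologicalComplex.exactAt_iff_isZero_homology _ _).mpr (hk i hi)
  haveI : (DRing.toD E).IsGE 0 := (DerivedCategory.isGE_Q_obj_iff _ _).mpr
    ((CochainComplex.isGE_iff _ _).mpr fun i hi => hz i (by omega))
  haveI : (DRing.toD E).IsLE 0 := (DerivedCategory.isLE_Q_obj_iff _ _).mpr
    ((CochainComplex.isLE_iff _ _).mpr fun i hi => hz i (by omega))
  obtain ⟨M, ⟨i₁⟩⟩ := (DRing.toD E).exists_iso_singleFunctor_obj_of_isGE_of_isLE 0
  exact ⟨i₁ ≪≫ (DerivedCategory.singleFunctor (ModuleCat.{u} R) 0).mapIso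
    (((DerivedCategory.singleFunctorCompHomologyFunctorIso (ModuleCat.{u} R) 0).app M).symm ≪≫
      (DerivedCategory.homologyFunctor (ModuleCat.{u} R) 0).mapIso i₁.symm ≪≫ h0)⟩

omit [IsNoetherianRing R] [IsLocalRing R] in
theorem sub_shortExact {M : Type u} [AddCommGroup M] [Module R M] (N : Submodule R M) :
    (ShortComplex.mk (ModuleCat.ofHom N.subtype) (ModuleCat.ofHom N.mkQ)
      (ModuleCat.hom_ext (LinearMap.exact_subtype_mkQ N).linearMap_comp_eq_zero)).ShortExact := by
  haveI : Mono (ModuleCat.ofHom N.subtype) := (ModuleCat.mono_iff_injective _).mpr N.subtype_injective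
  haveI : Epi (ModuleCat.ofHom N.mkQ) := (ModuleCat.epi_iff_surjective _).mpr N.mkQ_surjective
  exact ShortComplex.ShortExact.mk' ((ShortComplex.ShortExact.moduleCat_exact_iff_function_exact _).mpr
    (LinearMap.exact_subtype_mkQ N)) inferInstance inferInstance

theorem perfect_of_finLen (hκ : DRing.IsPerfect R (Dual.inD R (R ⧸ IsLocalRing.maximalIdeal R)))
    {M : Type u} [AddCommGroup M] [Module R M] (h : IsFiniteLength R M) :
    DRing.IsPerfect R (Dual.inD R M) := by
  induction h with
  | @of_subsingleton M _ _ _ =>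
    obtain ⟨Z, hZ⟩ := HasZeroObject.zero (C := CochainComplex (ModuleCat.{u} R) ℤ)
    have hX : ∀ i, IsZero (Z.X i) := fun i => (HomologicalComplex.eval _ _ i).map_isZero hZ
    exact ⟨Z, 0, 0, fun i _ => hX i,
      fun i => by
        haveI := ModuleCat.subsingleton_of_isZero (hX i)
        exact ⟨inferInstance, inferInstance⟩,
      ⟨(DerivedCategory.Q.map_isZero hZ).iso
        ((DerivedCategory.singleFunctor (ModuleCat.{u} R) 0).map_isZero (ModuleCat.isZero_of_subsingleton _))⟩⟩
  | @of_simple_quotient M _ _ N _ _ ih =>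
    obtain ⟨e⟩ := exists_quot_maximal (R := R) (M := M ⧸ N)
    exact H4DR.TorAmp.isPerfect_obj₂ _ (sub_shortExact N).singleTriangle_distinguished ih
      (H4DR.TorAmp.isPerfect_of_iso ((DerivedCategory.singleFunctor (ModuleCat.{u} R) 0).mapIso e.toModuleIso.symm) hκ)

theorem cohInBdd_iff (fs : List R) (hreg : RingTheory.Sequence.IsRegular R fs)
    (hgen : Ideal.ofList fs = IsLocalRing.maximalIdeal R) (K : Dual.D R) :
    (DRing.IsPerfect R K ∧ ∀ i : ℤ, Module.support R (Dual.HD R K i) ⊆ {IsLocalRing.closedPoint R}) ↔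
      WSerre.cohInBdd (FinLen R) K := by
  refine ⟨fun ⟨hK, hs⟩ => ⟨fun i => finLen_iff.mpr ⟨?_, hs i⟩, bounded_of_perfect hK⟩, fun h => ⟨?_, ?_⟩⟩
  · obtain ⟨E, a, b, -, hEp, ⟨e⟩⟩ := hK
    haveI := finite_homology E hEp i
    exact Module.Finite.equiv ((DerivedCategory.homologyFunctor (ModuleCat.{u} R) i).mapIso e).toLinearEquiv
  · have hκ : DRing.IsPerfect R (Dual.inD R (R ⧸ IsLocalRing.maximalIdeal R)) := by
      obtain ⟨e⟩ := koszul_iso fs hreg
      rw [hgen] at e
      exact H4DR.TorAmp.isPerfect_of_iso e (koszul_perfect fs)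
    exact H15Site.BddDevissage.induction_bounded (FinLen R) (fun K => DRing.IsPerfect R K)
      (fun e h => H4DR.TorAmp.isPerfect_of_iso e h) (fun K n h => H4DR.TorAmp.isPerfect_shift n h)
      (fun T hT h₁ h₃ => H4DR.TorAmp.isPerfect_obj₂ T hT h₁ h₃) (fun M hM => perfect_of_finLen hκ hM) K h
  · exact fun i => (finLen_iff.mp (h.1 i)).2

theorem closure_koszul (fs : List R) (hreg : RingTheory.Sequence.IsRegular R fs)
    (hgen : Ideal.ofList fs = IsLocalRing.maximalIdeal R) :
    AddSubgroup.closure {KZero.clTr (fun K : Dual.D R => DRing.IsPerfect R K ∧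
        ∀ i : ℤ, Module.support R (Dual.HD R K i) ⊆ {IsLocalRing.closedPoint R})
      (DRing.toD (Koszul.koszul R fs))} = ⊤ := by
  let P : ObjectProperty (Dual.D R) := fun K => DRing.IsPerfect R K ∧
    ∀ i : ℤ, Module.support R (Dual.HD R K i) ⊆ {IsLocalRing.closedPoint R}
  obtain ⟨φ, hφ⟩ := exists_equiv (C := FinLen R) (P := P) (cohInBdd_iff fs hreg hgen)
  let k := ModuleCat.of R (R ⧸ IsLocalRing.maximalIdeal R)
  have hk : FinLen R k := by
    haveI : IsSimpleModule R (R ⧸ IsLocalRing.maximalIdeal R) :=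
      isSimpleModule_iff_quot_maximal.mpr ⟨_, IsLocalRing.maximalIdeal.isMaximal R, ⟨.refl R _⟩⟩
    exact isFiniteLength_iff_isNoetherian_isArtinian.mpr ⟨inferInstance, inferInstance⟩
  have hφk : φ (KZero.clSub (FinLen R) k) = KZero.clTr P (DRing.toD (Koszul.koszul R fs)) := by
    obtain ⟨e⟩ := koszul_iso fs hreg
    rw [hgen] at e
    rw [hφ k hk, ← clTr_iso (C := FinLen R) (P := P) (cohInBdd_iff fs hreg hgen) e.symm
      (prop_single (cohInBdd_iff fs hreg hgen) k 0 hk)]
  let H : AddSubgroup (KZero.K0sub (FinLen R)) := AddSubgroup.closure {KZero.clSub (FinLen R) k}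
  have hH : H = ⊤ := by
    refine closure_eq_top H fun M hM => ?_
    obtain ⟨O, hO⟩ := HasZeroObject.zero (C := ModuleCat.{u} R)
    have hCO : FinLen R O := (FinLen R).prop_of_iso ((isZero_zero _).iso hO) (FinLen R).prop_zero
    suffices ∀ {N : Type u} [AddCommGroup N] [Module R N], IsFiniteLength R N →
        KZero.clSub (FinLen R) (ModuleCat.of R N) ∈ H from this hM
    intro N _ _ hN
    induction hN with
    | @of_subsingleton M _ _ _ =>
      rw [clSub_zero (ModuleCat.isZero_of_subsingleton _) IsFiniteLength.of_subsingleton]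
      exact H.zero_mem
    | @of_simple_quotient M _ _ N _ hN' ih =>
      obtain ⟨e⟩ := exists_quot_maximal (R := R) (M := M ⧸ N)
      have hQ : FinLen R (ModuleCat.of R (M ⧸ N)) := (FinLen R).prop_of_iso e.toModuleIso.symm hk
      have hMl : FinLen R (ModuleCat.of R M) := hN'.of_simple_quotient
      rw [clSub_shortExact (sub_shortExact N) hN' hMl hQ, clSub_iso (Z := O) e.toModuleIso hQ hk hO hCO]
      exact H.add_mem ih (AddSubgroup.subset_closure rfl)
  rw [← hφk, ← Set.image_singleton]
  show AddSubgroup.closure (φ.toAddMonoidHom '' _) = ⊤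
  rw [← AddMonoidHom.map_closure φ.toAddMonoidHom]
  show H.map φ.toAddMonoidHom = ⊤
  rw [hH, AddSubgroup.map_top_of_surjective _ φ.surjective]

end Groth.Agent.H27KZero.Local
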