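import Groth.Prelude.Def_KZero
import Mathlib

/-!
# `K₀` of an iso-closed, shift-closed class in a pretriangulated category
-/

set_option autoImplicit false
set_option linter.style.haveILetI false

open CategoryTheory CategoryTheory.Limits CategoryTheory.Pretriangulated
open scoped ZeroObject

namespace Groth.Agent.H27KZero.Tr

universe v u

variable {D : Type u} [Category.{v} D] [Preadditive D] [HasZeroObject D] [HasShift D ℤ]
  [∀ n : ℤ, (shiftFunctor D n).Additive] [Pretriangulated D] {P : ObjectProperty D}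

/-- `P` contains the zero objects and is stable under isomorphism and shift -/
structure Closed (P : ObjectProperty D) : Prop where
  zero : ∀ Z : D, IsZero Z → P Z
  iso : ∀ {K L : D}, (K ≅ L) → P K → P L
  shift : ∀ (K : D) (n : ℤ), P K → P (K⟦n⟧)

theorem triangle {T : Triangle D} (hT : T ∈ distTriang _) (h₁ : P T.obj₁) (h₂ : P T.obj₂) (h₃ : P T.obj₃) :
    KZero.clTr P T.obj₂ = KZero.clTr P T.obj₁ + KZero.clTr P T.obj₃ := by
  rw [KZero.clTr, KZero.clTr, KZero.clTr, dif_pos h₁, dif_pos h₂, dif_pos h₃, eq_comm, ← QuotientAddGroup.mk_add,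
    QuotientAddGroup.eq]
  exact AddSubgroup.subset_closure ⟨T, h₁, h₂, h₃, hT, by abel⟩

variable (hP : Closed P)
include hP

theorem cl_zero {Z : D} (hZ : IsZero Z) : KZero.clTr P Z = 0 := by
  have hT : Triangle.mk (0 : Z ⟶ Z) (𝟙 Z) (0 : Z ⟶ Z⟦(1 : ℤ)⟧) ∈ distTriang _ :=
    isomorphic_distinguished _ (contractible_distinguished Z) _
      (Triangle.isoMk _ _ (Iso.refl _) (Iso.refl _) (hZ.iso (isZero_zero _)) (hZ.eq_of_tgt _ _)
        ((isZero_zero _).eq_of_tgt _ _) (hZ.eq_of_src _ _))
  have := triangle hT (hP.zero Z hZ) (hP.zero Z hZ) (hP.zero Z hZ)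
  simpa using this

theorem cl_iso {K L : D} (e : K ≅ L) (hK : P K) : KZero.clTr P K = KZero.clTr P L := by
  have hT : Triangle.mk e.hom (0 : L ⟶ 0) (0 : (0 : D) ⟶ K⟦(1 : ℤ)⟧) ∈ distTriang _ :=
    isomorphic_distinguished _ (contractible_distinguished K) _
      (Triangle.isoMk _ _ (Iso.refl _) e.symm (Iso.refl _) (e.hom_inv_id.trans (Category.id_comp _).symm)
        (zero_comp.trans comp_zero.symm) (zero_comp.trans comp_zero.symm))
  have := triangle hT hK (hP.iso e hK) (hP.zero _ (isZero_zero _))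
  simp only [Triangle.mk_obj₁, Triangle.mk_obj₂, Triangle.mk_obj₃, cl_zero hP (isZero_zero _), add_zero] at this
  exact this.symm

theorem cl_shift_one {K : D} (hK : P K) : KZero.clTr P (K⟦(1 : ℤ)⟧) = -KZero.clTr P K := by
  have hT := rot_of_distTriang _ (contractible_distinguished K)
  have h : KZero.clTr P (0 : D) = KZero.clTr P K + KZero.clTr P (K⟦(1 : ℤ)⟧) :=
    triangle hT hK (hP.zero _ (isZero_zero _)) (hP.shift _ 1 hK)
  rw [cl_zero hP (isZero_zero _)] at h
  exact (neg_eq_of_add_eq_zero_right h.symm).symm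

theorem cl_shift {K : D} (hK : P K) (n : ℤ) : KZero.clTr P (K⟦n⟧) = n.negOnePow • KZero.clTr P K := by
  have step : ∀ n : ℤ, KZero.clTr P (K⟦n + 1⟧) = -KZero.clTr P (K⟦n⟧) := fun n => by
    rw [cl_iso hP ((shiftFunctorAdd D n 1).app K) (hP.shift _ _ hK)]
    exact cl_shift_one hP (hP.shift _ n hK)
  induction n using Int.inductionOn' (b := 0) with
  | zero =>
    rw [cl_iso hP ((shiftFunctorZero D ℤ).app K) (hP.shift _ _ hK), Int.negOnePow_zero, one_smul]
    rfl
  | succ k _ ih => rw [step, ih, Int.negOnePow_succ, Units.neg_smul]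
  | pred k _ ih =>
    have h := step (k - 1)
    rw [sub_add_cancel, ih] at h
    rw [show k = k - 1 + 1 by ring, Int.negOnePow_succ, Units.neg_smul, neg_inj] at h
    simpa using h.symm

omit hP in
theorem closure_eq_top (H : AddSubgroup (KZero.K0tr P)) (h : ∀ K, P K → KZero.clTr P K ∈ H) : H = ⊤ := by
  rw [eq_top_iff]
  rintro x -
  obtain ⟨x, rfl⟩ := QuotientAddGroup.mk_surjective x
  induction x using FreeAbelianGroup.induction_on with
  | zero => exact H.zero_mem
  | of M =>
    obtain ⟨M, hM⟩ := M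
    have := h M hM
    rwa [KZero.clTr, dif_pos hM] at this
  | neg M hM => exact H.neg_mem hM
  | add a b ha hb => exact H.add_mem ha hb

end Groth.Agent.H27KZero.Tr
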