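import Groth.Agent.H26ChowK.Frob
import Groth.Agent.H25Par.Rank
import Groth.Agent.H10Coh.Support
import Groth.Agent.H27KZero.Devissage
import Groth.Agent.H29Omega.ConormalSplit
import Mathlib

/-!
# Tensoring with a bundle of rank `e` is multiplication by `e` on graded pieces
-/

set_option autoImplicit false
set_option linter.style.haveILetI false
set_option backward.isDefEq.respectTransparency.types false
universe u

open CategoryTheory CategoryTheory.Limits AlgebraicGeometry TopologicalSpace
open scoped MonoidalCategory TensorProduct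

noncomputable section

namespace Groth.Agent.H27KZero

open Groth.Agent.H16Derived.KFlat.Stalk H26ChowK

/-- A proper closed subset of an irreducible space of dimension at most `r` has dimension `< r`. -/
theorem dim_lt_of_ssubset {T : Type*} [TopologicalSpace T] {A B : Set T} (hA : IsClosed A) (hBc : IsClosed B)
    (hB : IsIrreducible B) (hAB : A ⊂ B) {r : ℕ} (hr : topologicalKrullDim B ≤ r) :
    topologicalKrullDim A < r := by
  by_contra hlt
  rw [not_lt, topologicalKrullDim, Order.le_krullDim_iff] at hlt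
  obtain ⟨l, hl⟩ := hlt
  haveI : IrreducibleSpace B := Subtype.irreducibleSpace hB
  let i : A → B := Set.inclusion hAB.1
  have hi : Topology.IsInducing i := (Topology.IsEmbedding.inclusion hAB.1).isInducing
  let top : IrreducibleCloseds B := ⟨Set.univ, IrreducibleSpace.isIrreducible_univ B, isClosed_univ⟩
  let l' := l.map _ (IrreducibleCloseds.map_strictMono_of_isInducing hi)
  have hlast : l'.last < top := by
    refine lt_of_le_of_ne (fun _ _ => trivial) fun h => hAB.2 fun b hb => ?_
    have hsub : (l'.last : Set B) ⊆ Subtype.val ⁻¹' A := by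
      show closure (i '' (l.last : Set A)) ⊆ _
      exact closure_minimal (by rintro _ ⟨a, -, rfl⟩; exact a.2) (hA.preimage continuous_subtype_val)
    exact hsub (show (⟨b, hb⟩ : B) ∈ (l'.last : Set B) by rw [h]; trivial)
  have h1 : ((l'.snoc top hlast).length : WithBot ℕ∞) ≤ (r : WithBot ℕ∞) :=
    (Order.LTSeries.length_le_krullDim _).trans hr
  simp only [RelSeries.snoc_length, l', LTSeries.map_length, hl] at h1
  norm_cast at h1
  omega

theorem dim_mono {T : Type*} [TopologicalSpace T] {A B : Set T} (h : A ⊆ B) :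
    topologicalKrullDim A ≤ topologicalKrullDim B :=
  (Topology.IsEmbedding.inclusion h).isInducing.topologicalKrullDim_le

variable {X : Scheme.{u}} [IsNoetherian X]

theorem shortExact_tensorLeft {E : X.Modules} (hE : FlatMod.IsFinLocFree E) {S : ShortComplex X.Modules}
    (hS : S.ShortExact) : (S.map ((DCoh.tensorBi (X := X)).obj E)).ShortExact := by
  let T := (DCoh.tensorBi (X := X)).obj E
  let S' := S.map T
  haveI := hS.epi_g
  haveI : Epi S'.g := inferInstanceAs (Epi (T.map S.g))
  have hex : S'.Exact := hS.exact.map_of_epi_of_preservesCokernel T inferInstance inferInstance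
  haveI : Mono S'.f := by
    refine H29Omega.mono_of_injective_stalkLin _ fun x => ?_
    haveI : Module.Flat (X.presheaf.stalk x) ((DerSch.stalkFunctor X x).obj E) := isFlat_of_isFinLocFree hE x
    haveI : Mono ((DerSch.stalkFunctor X x).map S'.f) :=
      (ShortComplex.shortExact_of_iso (S.mapNatIso (leftIso E x).symm)
        ((hS.map_of_exact (DerSch.stalkFunctor X x)).map_of_exact (MonoidalCategory.tensorLeft _))).mono_f
    exact (ModuleCat.mono_iff_injective ((DerSch.stalkFunctor X x).map S'.f)).1 inferInstance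
  exact { exact := hex }

theorem support_tensor_subset_right (E M : X.Modules) :
    CohB1.support (CohB1.tensorMod E M) ⊆ CohB1.support M := fun x hx => by
  by_contra hM
  refine ((H25Euler.notMem_support_iff _ x).2 ?_) hx
  refine IsZero.of_iso ?_ ((leftIso E x).app M)
  exact (MonoidalCategory.tensorLeft _).map_isZero ((H25Euler.notMem_support_iff M x).1 hM)

theorem length_stalk_tensor {E : X.Modules} {e : ℕ} (hE : FlatMod.IsFinLocFreeOfRank e E) (M : X.Modules)
    (x : X) : Module.length (X.presheaf.stalk x) ((CohB1.tensorMod E M).presheaf.stalk x) =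
      e * Module.length (X.presheaf.stalk x) (M.presheaf.stalk x) := by
  obtain ⟨hfree, hfin, hrank⟩ := H25Par.finrank_stalk hE x
  let b := Module.finBasisOfFinrankEq (X.presheaf.stalk x) (E.presheaf.stalk x) hrank
  let e1 : (E.presheaf.stalk x ⊗[X.presheaf.stalk x] M.presheaf.stalk x) ≃ₗ[X.presheaf.stalk x]
      (Fin e → M.presheaf.stalk x) :=
    ((TensorProduct.congr b.equivFun (LinearEquiv.refl _ _)).trans (TensorProduct.comm _ _ _)).trans
      (TensorProduct.piScalarRight _ _ _ _)
  calc Module.length (X.presheaf.stalk x) ((CohB1.tensorMod E M).presheaf.stalk x)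
      = Module.length (X.presheaf.stalk x) (E.presheaf.stalk x ⊗[X.presheaf.stalk x] M.presheaf.stalk x) :=
        ((leftIso E x).app M).toLinearEquiv.length_eq
    _ = _ := by rw [e1.length_eq, Module.length_pi_of_fintype]; simp

/-- The statement of the theorem. -/
theorem tensor_sub_nsmul_mem {E : X.Modules} {e : ℕ} (hE : FlatMod.IsFinLocFreeOfRank e E)
    {F : X.Modules} (hF : Coh.IsCoh F) (r : ℕ) (hr : topologicalKrullDim (CohB1.support F) ≤ r) :
    KZero.clSub (fun M : X.Modules => Coh.IsCoh M) (CohB1.tensorMod E F) -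
        e • KZero.clSub (fun M : X.Modules => Coh.IsCoh M) F ∈
      AddSubgroup.closure {x : KZero.K0sub (fun M : X.Modules => Coh.IsCoh M) |
        ∃ G : X.Modules, Coh.IsCoh G ∧ topologicalKrullDim (CohB1.support G) < r ∧
          x = KZero.clSub (fun M : X.Modules => Coh.IsCoh M) G} := by
  let P : ObjectProperty X.Modules := fun M => Coh.IsCoh M
  let K := AddSubgroup.closure {x : KZero.K0sub P |
        ∃ G : X.Modules, Coh.IsCoh G ∧ topologicalKrullDim (CohB1.support G) < r ∧ x = KZero.clSub P G}
  have hE' : FlatMod.IsFinLocFree E := fun y => let ⟨U, hU⟩ := hE y; ⟨U, e, hU⟩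
  have hEc : Coh.IsCoh E := isCoh_of_isFinLocFree hE'
  let ψ : X.Modules → KZero.K0sub P ⧸ K := fun M => QuotientAddGroup.mk (KZero.clSub P M)
  have hadd : ∀ S : ShortComplex X.Modules, S.ShortExact → Coh.IsCoh S.X₁ → Coh.IsCoh S.X₂ → Coh.IsCoh S.X₃ →
      ψ S.X₂ = ψ S.X₁ + ψ S.X₃ := fun S hS h₁ h₂ h₃ => by
    simp only [ψ, clSub_shortExact (P := P) hS h₁ h₂ h₃, QuotientAddGroup.mk_add]
  have hsmall : ∀ M : X.Modules, Coh.IsCoh M → topologicalKrullDim (CohB1.support M) < r → ψ M = 0 :=
    fun M hM hd => (QuotientAddGroup.eq_zero_iff _).2 (AddSubgroup.subset_closure ⟨M, hM, hd, rfl⟩)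
  have hT : ∀ M : X.Modules, Coh.IsCoh M → Coh.IsCoh (CohB1.tensorMod E M) := fun M hM =>
    H10Coh.TT.isCoh_tensorMod hEc hM
  let Y' : Set X := CohB1.support F
  have hY' : IsClosed Y' := H10Coh.isClosed_support F hF.2
  let gen : {w : X // w ∈ Y'} → X.Modules := fun w => H25K.redMod (cl w.1)
  have hgenF : ∀ w, Coh.IsCoh (gen w) ∧ CohB1.support (gen w) ⊆ Y' := fun w =>
    ⟨H25K.isCoh_redMod _, (H25K.support_redMod_subset _).trans
      (closure_minimal (Set.singleton_subset_iff.2 w.2) hY')⟩
  suffices h : ψ (CohB1.tensorMod E F) - e • ψ F = 0 by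
    refine (QuotientAddGroup.eq_zero_iff _).1 ?_
    rw [← h]
    rfl
  refine eq_zero_of_gen (fun M => ψ (CohB1.tensorMod E M) - e • ψ M) Y' (fun S hS h₁ h₂ h₃ _ => ?_) gen hgenF
    (fun Z _ _ hZ y hy => ⟨⟨y, hZ (hy ▸ subset_closure rfl)⟩,
      hy ▸ H25K.support_redMod_subset (cl y), H25K.length_redMod (cl y) rfl⟩)
    (fun w => ?_) hF le_rfl
  · have h2 := hadd _ (shortExact_tensorLeft hE' hS) (hT _ h₁) (hT _ h₂) (hT _ h₃)
    change ψ (CohB1.tensorMod E S.X₂) = ψ (CohB1.tensorMod E S.X₁) + ψ (CohB1.tensorMod E S.X₃) at h2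
    rw [h2, hadd S hS h₁ h₂ h₃, nsmul_add]
    abel
  obtain ⟨w, hw⟩ := w
  have hwY : closure ({w} : Set X) ⊆ Y' := closure_minimal (Set.singleton_subset_iff.2 hw) hY'
  have hdim : topologicalKrullDim (closure ({w} : Set X) : Set X) ≤ r := (dim_mono hwY).trans hr
  have key : ∀ M : X.Modules, Coh.IsCoh M → CohB1.support M ⊆ closure {w} →
      ψ M = lenZ M w • ψ (H25K.redMod (cl w)) := by
    intro M hM hMw
    rw [← sub_eq_zero]
    refine eq_zero_of_gen (fun M => ψ M - lenZ M w • ψ (H25K.redMod (cl w))) (closure {w})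
      (fun S hS h₁ h₂ h₃ hsub => ?_)
      (fun v : {v : X // v ∈ closure ({w} : Set X)} => H25K.redMod (cl v.1))
      (fun v => ⟨H25K.isCoh_redMod _, (H25K.support_redMod_subset _).trans
        (closure_minimal (Set.singleton_subset_iff.2 v.2) isClosed_closure)⟩)
      (fun Z _ _ hZ y hy => ⟨⟨y, hZ (hy ▸ subset_closure rfl)⟩,
        hy ▸ H25K.support_redMod_subset (cl y), H25K.length_redMod (cl y) rfl⟩)
      (fun v => ?_) hM hMw
    · haveI := hS.mono_f
      haveI := hS.epi_g
      rw [hadd S hS h₁ h₂ h₃, lenZ_add S hS w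
        (length_ne_top_of_support_subset h₁ ((LeadDev.support_subset_of_mono S.f).trans hsub))
        (length_ne_top_of_support_subset h₃ ((LeadDev.support_subset_of_epi S.g).trans hsub)), add_zsmul]
      abel
    obtain ⟨v, hv⟩ := v
    by_cases hvw : v = w
    · subst hvw
      rw [lenZ_redMod, one_zsmul, sub_self]
    have hnw : w ∉ closure ({v} : Set X) := fun h => hvw (Specializes.antisymm
      (specializes_iff_mem_closure.2 h) (specializes_iff_mem_closure.2 hv)).eq
    rw [lenZ_of_notMem fun h => hnw (H25K.support_redMod_subset _ h), zero_zsmul, sub_zero]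
    refine hsmall _ (H25K.isCoh_redMod _) (lt_of_le_of_lt (dim_mono (H25K.support_redMod_subset _)) ?_)
    exact dim_lt_of_ssubset isClosed_closure isClosed_closure (isIrreducible_singleton.closure)
      ⟨closure_minimal (Set.singleton_subset_iff.2 hv) isClosed_closure, fun h => hnw (h (subset_closure rfl))⟩ hdim
  have hred : Coh.IsCoh (H25K.redMod (cl w)) := H25K.isCoh_redMod _
  show ψ (CohB1.tensorMod E (H25K.redMod (cl w))) - e • ψ (H25K.redMod (cl w)) = 0
  rw [key _ (hT _ hred) ((support_tensor_subset_right _ _).trans (H25K.support_redMod_subset _)),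
    show lenZ (CohB1.tensorMod E (H25K.redMod (cl w))) w = (e : ℤ) by
      rw [lenZ, length_stalk_tensor hE, H25K.length_redMod (cl w) rfl, mul_one, ENat.toNat_natCast],
    natCast_zsmul, sub_self]

end Groth.Agent.H27KZero

end
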