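/-
An ample invertible module gives the resolution property.
-/
import Groth.Agent.H22Alg.KAmple
import Groth.Agent.H11Tilde.TwistQuot
import Groth.Agent.H11Sym.InvertibleInverse
import Groth.Agent.H11Ample.QuasiAffine
import Groth.Prelude.Def_PerfAux

set_option autoImplicit false
set_option linter.style.haveILetI false

universe u

open CategoryTheory CategoryTheory.Limits AlgebraicGeometry

namespace Groth.Agent.H27KZero

variable {X : Scheme.{u}} {L : X.Modules}

/-- A quasi-coherent module of finite type is a quotient of a finite locally free one. -/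
theorem exists_epi_finLocFree (hA : CohB1.IsAmple L) (F : X.Modules) (hF : Coh.IsCoh F) :
    ∃ (E : X.Modules) (p : E ⟶ F), FlatMod.IsFinLocFree E ∧ Epi p := by
  haveI : CompactSpace X := (H11Ample.isAmple_iff.1 hA).2.1
  haveI : QuasiSeparatedSpace X := H11Ample.quasiSeparatedSpace_of_isAmple hA
  obtain ⟨n, hn⟩ := H11Ample.eventually_spanning hA hF
  obtain ⟨ι, _, g, hg⟩ := hn n le_rfl
  obtain ⟨k, q, hq⟩ := H22Alg.KModel.exists_epi_free _ g hg
  obtain ⟨M, hM, ⟨e⟩⟩ := H11Sym.exists_inverse
    (H11Ample.isInvertible_tensorPow (H11Ample.isAmple_iff.1 hA).1 n)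
  refine ⟨CohB1.tensorMod (FlatMod.freeMod X k) M, LimSh.tensorModMap q M ≫
    (H11Ample.tensorAssocIso F _ _ ≪≫ PicGrp.tensorModIso (Iso.refl F) (H11Ample.tensorCommIso _ _ ≪≫ e) ≪≫
      H11Ample.tensorCommIso _ _ ≪≫ H11Ample.tensorLeftUnitIso F).hom,
    H22Alg.KModel.finLocFree_tensorMod (H22Alg.KModel.finLocFree_free k) (H22Alg.KModel.finLocFree_invertible hM), ?_⟩
  haveI : Epi (LimSh.tensorModMap q M) := @H10Coh.Tw.epi_map _ _ _ _ q hq hM
  exact epi_comp _ _

theorem hasResolutionProperty_of_ample (hA : CohB1.IsAmple L) : PerfAux.HasResolutionProperty X :=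
  fun M hM hFT => exists_epi_finLocFree hA M ⟨hM, hFT⟩

end Groth.Agent.H27KZero
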