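import Groth.Agent.H27KZero.TrBasic
import Groth.Agent.H27KZero.Devissage
import Groth.Agent.H16Derived.KFlat.BoundedAbove
import Mathlib

/-!
# The alternating sum of the terms of a bounded complex in `K₀` of an exact subcategory
-/

set_option autoImplicit false
set_option linter.style.haveILetI false

open CategoryTheory CategoryTheory.Limits CategoryTheory.Pretriangulated

namespace Groth.Agent.H27KZero.Cx

universe w v u

variable {A : Type u} [Category.{v} A] [Abelian A] {C : ObjectProperty A}

/-- closed under extensions and kernels of epimorphisms, containing the zero objects -/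
structure Adm (C : ObjectProperty A) : Prop where
  zero : ∀ Z : A, IsZero Z → C Z
  ext : ∀ {S : ShortComplex A}, S.ShortExact → C S.X₁ → C S.X₃ → C S.X₂
  ker : ∀ {S : ShortComplex A}, S.ShortExact → C S.X₂ → C S.X₃ → C S.X₁

/-- all terms in `C`, almost all zero -/
def Bdd (C : ObjectProperty A) (E : CochainComplex A ℤ) : Prop :=
  (∀ i, C (E.X i)) ∧ ∃ a b : ℤ, ∀ i, i < a ∨ b < i → IsZero (E.X i)

/-- the alternating sum of the classes of the terms -/
noncomputable def chi (C : ObjectProperty A) (E : CochainComplex A ℤ) : KZero.K0sub C :=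
  ∑ᶠ i : ℤ, i.negOnePow • KZero.clSub C (E.X i)

section
variable (hC : Adm C)
include hC

theorem Adm.iso {M N : A} (e : M ≅ N) (hM : C M) : C N := by
  obtain ⟨O, hO⟩ := HasZeroObject.zero (C := A)
  have hS : (ShortComplex.mk (0 : O ⟶ N) e.inv zero_comp).ShortExact := by
    haveI : Mono (0 : O ⟶ N) := ⟨fun g h _ => hO.eq_of_tgt g h⟩
    exact ShortComplex.ShortExact.mk' ((ShortComplex.exact_iff_mono _ rfl).2 (inferInstanceAs (Mono e.inv)))
      inferInstance inferInstance
  exact hC.ext hS (hC.zero O hO) hM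

theorem finite_support {E : CochainComplex A ℤ} (hE : Bdd C E) :
    (Function.support fun i : ℤ => i.negOnePow • KZero.clSub C (E.X i)).Finite := by
  obtain ⟨hE, a, b, hab⟩ := hE
  refine (Set.finite_Icc a b).subset fun i hi => ?_
  by_contra h
  rw [Set.mem_Icc, not_and_or, not_le, not_le] at h
  refine hi ?_
  dsimp only
  rw [clSub_zero (hab i h) (hE i), smul_zero]

theorem chi_eq_sum {E : CochainComplex A ℤ} (hE : ∀ i, C (E.X i)) (a b : ℤ)
    (hab : ∀ i, i < a ∨ b < i → IsZero (E.X i)) :
    chi C E = ∑ i ∈ Finset.Icc a b, i.negOnePow • KZero.clSub C (E.X i) := by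
  refine finsum_eq_sum_of_support_subset _ fun i hi => ?_
  rw [Finset.coe_Icc, Set.mem_Icc]
  by_contra h
  rw [not_and_or, not_le, not_le] at h
  refine hi ?_
  dsimp only
  rw [clSub_zero (hab i h) (hE i), smul_zero]

theorem chi_zero {E : CochainComplex A ℤ} (hE : ∀ i, IsZero (E.X i)) : chi C E = 0 :=
  finsum_eq_zero_of_forall_eq_zero fun i => by rw [clSub_zero (hE i) (hC.zero _ (hE i)), smul_zero]

omit hC in
theorem cycles_shortExact {E : CochainComplex A ℤ} (i : ℤ) (h : E.ExactAt (i + 1)) :
    (ShortComplex.mk (kernel.ι (E.d i (i + 1)))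
      (kernel.lift (E.d (i + 1) (i + 1 + 1)) (E.d i (i + 1)) (E.d_comp_d _ _ _))
      (by rw [← cancel_mono (kernel.ι (E.d (i + 1) (i + 1 + 1)))]; simp)).ShortExact := by
  have hx := (E.exactAt_iff' i (i + 1) (i + 1 + 1) (by simp) (by simp)).mp h
  have : Epi (kernel.lift (E.d (i + 1) (i + 1 + 1)) (E.d i (i + 1)) (E.d_comp_d _ _ _)) := hx.epi_kernelLift
  refine ShortComplex.ShortExact.mk' (ShortComplex.exact_of_f_is_kernel _ (KernelFork.IsLimit.ofι _ _
      (fun {W} k hk => kernel.lift _ k (by
        rw [← kernel.lift_ι (E.d (i + 1) (i + 1 + 1)) (E.d i (i + 1)) (E.d_comp_d _ _ _), ← Category.assoc]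
        simp only at hk
        rw [hk, zero_comp]))
      (fun {W} k hk => kernel.lift_ι _ _ _)
      (fun {W} k hk m hm => by rw [← cancel_mono (kernel.ι (E.d i (i + 1))), hm, kernel.lift_ι])))
    inferInstance this

theorem chi_acyclic {E : CochainComplex A ℤ} (hE : Bdd C E) (hac : ∀ i, E.ExactAt i) : chi C E = 0 := by
  have hfin := finite_support hC hE
  obtain ⟨hEC, a, b, hab⟩ := hE
  let Z : ℤ → A := fun i => kernel (E.d i (i + 1))
  have hZz : ∀ i, IsZero (E.X i) → IsZero (Z i) := fun i h => by
    refine (IsZero.iff_id_eq_zero _).2 ?_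
    rw [← cancel_mono (kernel.ι (E.d i (i + 1)))]
    exact h.eq_of_tgt _ _
  have hCZ : ∀ i, C (Z i) := by
    have key : ∀ (n : ℕ) (i : ℤ), b + 1 - n ≤ i → C (Z i) := by
      intro n
      induction n with
      | zero => exact fun i hi => hC.zero _ (hZz i (hab i (Or.inr (by omega))))
      | succ n ih =>
        intro i hi
        exact hC.ker (cycles_shortExact i (hac _)) (hEC i) (ih (i + 1) (by omega))
    exact fun i => key (b + 1 - i).toNat i (by omega)
  let z : ℤ → KZero.K0sub C := fun i => i.negOnePow • KZero.clSub C (Z i)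
  have hz : (Function.support z).Finite := by
    refine (Set.finite_Icc a b).subset fun i hi => ?_
    by_contra h
    rw [Set.mem_Icc, not_and_or, not_le, not_le] at h
    refine hi ?_
    dsimp only [z]
    rw [clSub_zero (hZz i (hab i h)) (hCZ i), smul_zero]
  have hz' : (Function.support fun i => -z (i + 1)).Finite := by
    refine Set.Finite.subset (hz.preimage ((Equiv.addRight (1 : ℤ)).injective.injOn)) fun i hi => ?_
    simpa using hi
  have e : (fun i : ℤ => i.negOnePow • KZero.clSub C (E.X i)) = fun i => z i + -z (i + 1) := funext fun i => by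
    have hx : KZero.clSub C (E.X i) = KZero.clSub C (Z i) + KZero.clSub C (Z (i + 1)) :=
      clSub_shortExact (cycles_shortExact i (hac _)) (hCZ i) (hEC i) (hCZ (i + 1))
    rw [hx, smul_add]
    simp [z, Int.negOnePow_succ, Units.neg_smul]
  rw [chi, e, finsum_add_distrib hz hz', finsum_neg_distrib,
    show ∑ᶠ i : ℤ, z (i + 1) = ∑ᶠ i : ℤ, z i from finsum_comp_equiv (Equiv.addRight (1 : ℤ)) (f := z), add_neg_cancel]

omit hC in
theorem cone_shortExact {E F : CochainComplex A ℤ} (f : E ⟶ F) (i : ℤ) :
    (ShortComplex.mk ((CochainComplex.mappingCone.inr f).f i)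
      ((CochainComplex.mappingCone.fst f).1.v i (i + 1) rfl) (CochainComplex.mappingCone.inr_f_fst_v f i (i + 1) rfl)).ShortExact := by
  refine ShortComplex.Splitting.shortExact
    { r := (CochainComplex.mappingCone.snd f).v i i (add_zero i)
      s := (CochainComplex.mappingCone.inl f).v (i + 1) i (by omega)
      f_r := CochainComplex.mappingCone.inr_f_snd_v f i
      s_g := CochainComplex.mappingCone.inl_v_fst_v f (i + 1) i rfl
      id := ?_ }
  exact (add_comm _ _).trans (CochainComplex.mappingCone.id_X f i (i + 1) rfl)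

theorem bdd_cone {E F : CochainComplex A ℤ} (f : E ⟶ F) (hE : Bdd C E) (hF : Bdd C F) :
    Bdd C (CochainComplex.mappingCone f) := by
  obtain ⟨hE, a, b, hab⟩ := hE
  obtain ⟨hF, a', b', hab'⟩ := hF
  refine ⟨fun i => hC.ext (cone_shortExact f i) (hF i) (hE (i + 1)), min (a - 1) a', max b b', fun i hi => ?_⟩
  exact (CochainComplex.mappingCone.isZero_X_iff f i).mpr ⟨hab _ (by omega), hab' i (by omega)⟩

theorem chi_cone {E F : CochainComplex A ℤ} (f : E ⟶ F) (hE : Bdd C E) (hF : Bdd C F) :
    chi C (CochainComplex.mappingCone f) = chi C F - chi C E := by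
  let e : ℤ → KZero.K0sub C := fun i => i.negOnePow • KZero.clSub C (E.X i)
  have he := finite_support hC hE
  have he' : (Function.support fun i => -e (i + 1)).Finite := by
    refine Set.Finite.subset (he.preimage ((Equiv.addRight (1 : ℤ)).injective.injOn)) fun i hi => ?_
    simpa [e] using hi
  have eq : (fun i : ℤ => i.negOnePow • KZero.clSub C ((CochainComplex.mappingCone f).X i)) =
      fun i => i.negOnePow • KZero.clSub C (F.X i) + -e (i + 1) := funext fun i => by
    have hx : KZero.clSub C ((CochainComplex.mappingCone f).X i) = KZero.clSub C (F.X i) + KZero.clSub C (E.X (i + 1)) :=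
      clSub_shortExact (cone_shortExact f i) (hF.1 i) ((bdd_cone hC f hE hF).1 i) (hE.1 (i + 1))
    rw [hx, smul_add]
    simp [e, Int.negOnePow_succ, Units.neg_smul]
  rw [chi, eq, finsum_add_distrib (finite_support hC hF) he', finsum_neg_distrib,
    show ∑ᶠ i : ℤ, e (i + 1) = ∑ᶠ i : ℤ, e i from finsum_comp_equiv (Equiv.addRight (1 : ℤ)) (f := e)]
  exact (sub_eq_add_neg _ _).symm

variable [HasDerivedCategory.{w} A]

omit hC in
theorem exactAt_of_isZero_Q {E : CochainComplex A ℤ} (h : IsZero (DerivedCategory.Q.obj E)) (i : ℤ) :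
    E.ExactAt i := by
  rw [HomologicalComplex.exactAt_iff_isZero_homology]
  exact ((DerivedCategory.homologyFunctor A i).map_isZero h).of_iso
    ((DerivedCategory.homologyFunctorFactors A i).app E).symm

theorem chi_eq_of_isIso {E F : CochainComplex A ℤ} (f : E ⟶ F) [IsIso (DerivedCategory.Q.map f)]
    (hE : Bdd C E) (hF : Bdd C F) : chi C E = chi C F := by
  have hT := DerivedCategory.mappingCone_triangle_distinguished f
  have hz : IsZero (DerivedCategory.Q.obj (CochainComplex.mappingCone f)) :=
    (Triangle.isZero₃_iff_isIso₁ _ hT).mpr (inferInstanceAs (IsIso (DerivedCategory.Q.map f)))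
  have := chi_cone hC f hE hF
  rw [chi_acyclic hC (bdd_cone hC f hE hF) (exactAt_of_isZero_Q hz)] at this
  exact (sub_eq_zero.mp this.symm).symm

end

section single

variable (hC : Adm C)
include hC

theorem bdd_single (M : A) (n : ℤ) (hM : C M) :
    Bdd C ((HomologicalComplex.single A (ComplexShape.up ℤ) n).obj M) := by
  refine ⟨fun i => ?_, n, n, fun i hi => HomologicalComplex.isZero_single_obj_X _ _ _ _ (by omega)⟩
  by_cases hi : i = n
  · subst hi
    exact hC.iso (HomologicalComplex.singleObjXSelf (ComplexShape.up ℤ) i M).symm hM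
  · exact hC.zero _ (HomologicalComplex.isZero_single_obj_X _ _ _ _ hi)

theorem chi_single (M : A) (n : ℤ) (hM : C M) :
    chi C ((HomologicalComplex.single A (ComplexShape.up ℤ) n).obj M) = n.negOnePow • KZero.clSub C M := by
  obtain ⟨O, hO⟩ := HasZeroObject.zero (C := A)
  rw [chi, finsum_eq_single _ n fun i hi => by
    rw [clSub_zero (HomologicalComplex.isZero_single_obj_X _ _ _ _ hi) ((bdd_single hC M n hM).1 i), smul_zero]]
  exact congrArg _ (clSub_iso (HomologicalComplex.singleObjXSelf (ComplexShape.up ℤ) n M)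
    ((bdd_single hC M n hM).1 n) hM hO (hC.zero O hO))

variable [HasDerivedCategory.{w} A] {P : ObjectProperty (DerivedCategory A)}

/-- `[M] ↦ [M[0]]` -/
theorem exists_hom (hsingle : ∀ M, C M → P ((DerivedCategory.singleFunctor A 0).obj M)) :
    ∃ φ : KZero.K0sub C →+ KZero.K0tr P, ∀ M, C M →
      φ (KZero.clSub C M) = KZero.clTr P ((DerivedCategory.singleFunctor A 0).obj M) := by
  let f : FreeAbelianGroup (Subtype C) →+ KZero.K0tr P :=
    FreeAbelianGroup.lift fun M => KZero.clTr P ((DerivedCategory.singleFunctor A 0).obj M.1)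
  have hf : KZero.relSub C ≤ f.ker := by
    refine (AddSubgroup.closure_le _).mpr ?_
    rintro x ⟨S, h₁, h₂, h₃, hS, rfl⟩
    have := Tr.triangle (P := P) hS.singleTriangle_distinguished (hsingle _ h₁) (hsingle _ h₂) (hsingle _ h₃)
    simp only [SetLike.mem_coe, AddMonoidHom.mem_ker, map_sub, f, FreeAbelianGroup.lift_apply_of]
    rw [sub_sub, sub_eq_zero]
    exact this
  refine ⟨QuotientAddGroup.lift _ f hf, fun M hM => ?_⟩
  rw [KZero.clSub, dif_pos hM, QuotientAddGroup.lift_mk]
  simp [f]

open H16Derived.KFlat in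
theorem hom_chi (hP : Tr.Closed P) (hQ : ∀ E, Bdd C E → P (DerivedCategory.Q.obj E))
    (φ : KZero.K0sub C →+ KZero.K0tr P)
    (hφ : ∀ M, C M → φ (KZero.clSub C M) = KZero.clTr P ((DerivedCategory.singleFunctor A 0).obj M))
    {E : CochainComplex A ℤ} (hE : Bdd C E) : φ (chi C E) = KZero.clTr P (DerivedCategory.Q.obj E) := by
  have hone : ∀ (F : CochainComplex A ℤ) (p : ℤ), C (F.X p) → (∀ i, i ≠ p → IsZero (F.X i)) →
      φ (chi C F) = KZero.clTr P (DerivedCategory.Q.obj F) := fun F p hFp hz => by
    haveI : F.IsStrictlyGE p := (CochainComplex.isStrictlyGE_iff _ p).2 fun q hq => hz q (by omega)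
    haveI : F.IsStrictlyLE p := (CochainComplex.isStrictlyLE_iff _ p).2 fun q hq => hz q (by omega)
    obtain ⟨M, ⟨e⟩⟩ := CochainComplex.exists_iso_single F p
    have hM : C M := hC.iso ((HomologicalComplex.eval _ _ p).mapIso e ≪≫
      HomologicalComplex.singleObjXSelf (ComplexShape.up ℤ) p M) hFp
    have hF : Bdd C F := ⟨fun i => if h : i = p then h ▸ hFp else hC.zero _ (hz i h), p, p,
      fun i hi => hz i (by omega)⟩
    have hb := bdd_single hC M p hM
    have he : IsIso (DerivedCategory.Q.map e.hom) := inferInstance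
    rw [chi_eq_of_isIso hC e.hom hF hb, chi_single hC M p hM, Units.smul_def, map_zsmul, hφ M hM, ← Units.smul_def]
    have hs : P ((DerivedCategory.singleFunctor A p).obj M) :=
      hP.iso ((DerivedCategory.singleFunctorIsoCompQ A p).app M).symm (hQ _ hb)
    rw [Tr.cl_iso hP (DerivedCategory.Q.mapIso e ≪≫ ((DerivedCategory.singleFunctorIsoCompQ A p).app M).symm) (hQ _ hF)]
    have e' := ((DerivedCategory.singleFunctors A).shiftIso (-p) p 0 (by simp)).app M
    rw [← Tr.cl_iso hP e' (hP.iso e'.symm hs)]
    refine ((Tr.cl_shift hP ?_ (-p)).trans (by rw [Int.negOnePow_neg])).symm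
    exact hP.iso ((DerivedCategory.singleFunctorIsoCompQ A 0).app M).symm (hQ _ (bdd_single hC M 0 hM))
  suffices key : ∀ (n : ℕ) (c : ℤ) (E : CochainComplex A ℤ), (∀ i, C (E.X i)) →
      (∀ i, i < c ∨ c + n ≤ i → IsZero (E.X i)) → φ (chi C E) = KZero.clTr P (DerivedCategory.Q.obj E) by
    obtain ⟨hEC, a, b, hab⟩ := hE
    exact key (b + 1 - a).toNat a E hEC fun i hi => hab i (by omega)
  intro n
  induction n with
  | zero =>
    intro c E hEC hz
    have hzero : ∀ i, IsZero (E.X i) := fun i => hz i (by omega)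
    exact hone E 0 (hEC 0) fun i _ => hzero i
  | succ n ih =>
    intro c E hEC hz
    let p : ℤ := c + n
    have hzp : ∀ i, i ≠ p → IsZero ((Brutal.geq E p).X i) := fun i hi => by
      by_cases h : p ≤ i
      · have := Brutal.isIso_ι_f E p h
        exact (hz i (by omega)).of_iso (asIso ((Brutal.ι E p).f i))
      · exact Brutal.isZero_geq E _ (by omega)
    have hp : C ((Brutal.geq E p).X p) := by
      have := Brutal.isIso_ι_f E p (le_refl p)
      exact hC.iso (asIso ((Brutal.ι E p).f p)).symm (hEC p)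
    have hcok : ∀ i, (C ((cokernel (Brutal.ι E p)).X i)) := fun i => by
      by_cases h : p ≤ i
      · exact hC.zero _ (Brutal.isZero_cokernel E _ h)
      · have := Brutal.isIso_cokernel_π E p (show i < p by omega)
        exact hC.iso (asIso ((cokernel.π (Brutal.ι E p)).f i)) (hEC i)
    have hcz : ∀ i, i < c ∨ c + n ≤ i → IsZero ((cokernel (Brutal.ι E p)).X i) := fun i hi => by
      by_cases h : p ≤ i
      · exact Brutal.isZero_cokernel E _ h
      · have := Brutal.isIso_cokernel_π E p (show i < p by omega)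
        exact (hz i (by omega)).of_iso (asIso ((cokernel.π (Brutal.ι E p)).f i)).symm
    have hG : Bdd C (Brutal.geq E p) :=
      ⟨fun i => if h : i = p then h ▸ hp else hC.zero _ (hzp i h), p, p, fun i hi => hzp i (by omega)⟩
    have hK : Bdd C (cokernel (Brutal.ι E p)) := ⟨hcok, c, c + n - 1, fun i hi => hcz i (by omega)⟩
    have hE' : Bdd C E := ⟨hEC, c, c + n, fun i hi => hz i (by omega)⟩
    have hS := Brutal.shortExact E p
    have hchi : chi C E = chi C (Brutal.geq E p) + chi C (cokernel (Brutal.ι E p)) := by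
      rw [chi, chi, chi, ← finsum_add_distrib (finite_support hC hG) (finite_support hC hK)]
      refine finsum_congr fun i => ?_
      rw [← smul_add]
      exact congrArg _ (clSub_shortExact (hS.map_of_exact (HomologicalComplex.eval A (ComplexShape.up ℤ) i))
        (hG.1 i) (hEC i) (hK.1 i))
    rw [hchi, map_add, hone _ p hp hzp, ih c _ hcok hcz]
    exact (Tr.triangle (P := P) (DerivedCategory.triangleOfSES_distinguished hS) (hQ _ hG) (hQ _ hE') (hQ _ hK)).symm

end single

end Groth.Agent.H27KZero.Cx
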