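import Groth.Agent.H27KZero.Devissage
import Groth.Agent.H15Site.BddDevissage
import Mathlib

/-!
# `K₀` of bounded objects with cohomology in a weak Serre subcategory
-/

set_option autoImplicit false
set_option linter.style.haveILetI false

open CategoryTheory CategoryTheory.Limits CategoryTheory.Pretriangulated DerivedCategory
open DerivedCategory.TStructure
open scoped ZeroObject

namespace Groth.Agent.H27KZero

universe w v u

variable {A : Type u} [Category.{v} A] [Abelian A]

section exactness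

variable (C : ObjectProperty A) [WSerre.IsWeakSerre C]

theorem prop_kernel {X Y : A} (f : X ⟶ Y) (hX : C X) (hY : C Y) : C (kernel f) :=
  C.prop_of_isLimit_kernelFork (limit.isLimit (parallelPair f 0)) hX hY

theorem clSub_eq_kernel_add {X Y Z : A} (f : X ⟶ Y) (g : Y ⟶ Z) (w : f ≫ g = 0)
    (he : (ShortComplex.mk f g w).Exact) (hX : C X) (hY : C Y) (hZ : C Z) :
    KZero.clSub C X = KZero.clSub C (kernel f) + KZero.clSub C (kernel g) := by
  haveI : Epi (kernel.lift g f w) := he.epi_kernelLift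
  have w' : kernel.ι f ≫ kernel.lift g f w = 0 := by
    rw [← cancel_mono (kernel.ι g)]
    simp
  have hS : (ShortComplex.mk _ _ w').ShortExact :=
    { exact := ShortComplex.exact_of_f_is_kernel _ (KernelFork.IsLimit.ofι _ w'
        (fun {W} k hk => kernel.lift f k (by rw [← kernel.lift_ι g f w, ← Category.assoc]; simp [hk]))
        (fun {W} k hk => kernel.lift_ι _ _ _)
        (fun {W} k hk m hm => by rw [← cancel_mono (kernel.ι f), hm, kernel.lift_ι]))
      mono_f := inferInstance
      epi_g := inferInstance }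
  exact clSub_shortExact hS (prop_kernel C f hX hY) hX (prop_kernel C g hY hZ)

end exactness

variable [HasDerivedCategory.{w} A]

theorem clTr_triangle {P : ObjectProperty (DerivedCategory A)} {T : Triangle (DerivedCategory A)}
    (hT : T ∈ distTriang _) (h₁ : P T.obj₁) (h₂ : P T.obj₂) (h₃ : P T.obj₃) :
    KZero.clTr P T.obj₂ = KZero.clTr P T.obj₁ + KZero.clTr P T.obj₃ := by
  rw [KZero.clTr, KZero.clTr, KZero.clTr, dif_pos h₁, dif_pos h₂, dif_pos h₃, eq_comm, ← QuotientAddGroup.mk_add,
    QuotientAddGroup.eq]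
  exact AddSubgroup.subset_closure ⟨T, h₁, h₂, h₃, hT, by abel⟩

variable {C : ObjectProperty A} [WSerre.IsWeakSerre C] {P : ObjectProperty (DerivedCategory A)}

section maps

variable (hP : ∀ K, P K ↔ WSerre.cohInBdd C K)
include hP

theorem prop_zero : P (0 : DerivedCategory A) := by
  refine (hP _).mpr ⟨fun i => C.prop_of_iso ((isZero_zero A).iso ?_) C.prop_zero, ⟨0, ?_⟩, ⟨0, ?_⟩⟩
  · exact (homologyFunctor A i).map_isZero (isZero_zero _)
  · exact t.isGE_of_isZero (isZero_zero _) 0
  · exact t.isLE_of_isZero (isZero_zero _) 0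

theorem clTr_zero {Z : DerivedCategory A} (hZ : IsZero Z) : KZero.clTr P Z = 0 := by
  have hPZ : P Z := (hP _).mpr (H15Site.BddDevissage.cohInBdd_of_iso C ((isZero_zero _).iso hZ) ((hP _).mp (prop_zero hP)))
  have hT : contractibleTriangle Z ∈ distTriang _ := contractible_distinguished Z
  have h0 : P (0 : DerivedCategory A) := prop_zero hP
  have e := clTr_triangle hT hPZ hPZ h0
  have e' := clTr_triangle (contractible_distinguished (0 : DerivedCategory A)) h0 h0 h0
  simp only [contractibleTriangle_obj₁, contractibleTriangle_obj₂, contractibleTriangle_obj₃] at e e'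
  have e0 : KZero.clTr P (0 : DerivedCategory A) = 0 := by simpa using e'
  have hT' : Triangle.mk (0 : Z ⟶ 0) (𝟙 (0 : DerivedCategory A)) (0 : (0 : DerivedCategory A) ⟶ Z⟦(1 : ℤ)⟧) ∈ distTriang _ := by
    refine isomorphic_distinguished _ (contractible_distinguished Z) _ ?_
    exact Triangle.isoMk _ _ (Iso.refl _) ((isZero_zero _).iso hZ) (Iso.refl _) (hZ.eq_of_tgt _ _)
      ((isZero_zero _).eq_of_tgt _ _) ((isZero_zero _).eq_of_src _ _)
  simpa [e0] using (clTr_triangle hT' hPZ h0 h0).symm

theorem clTr_iso {K L : DerivedCategory A} (e : K ≅ L) (hK : P K) : KZero.clTr P K = KZero.clTr P L := by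
  have hL : P L := (hP _).mpr (H15Site.BddDevissage.cohInBdd_of_iso C e ((hP _).mp hK))
  have hT : Triangle.mk e.hom (0 : L ⟶ 0) (0 : (0 : DerivedCategory A) ⟶ K⟦(1 : ℤ)⟧) ∈ distTriang _ :=
    isomorphic_distinguished _ (contractible_distinguished K) _
      (Triangle.isoMk _ _ (Iso.refl _) e.symm (Iso.refl _) (e.hom_inv_id.trans (Category.id_comp _).symm)
        (zero_comp.trans comp_zero.symm) (zero_comp.trans comp_zero.symm))
  have := clTr_triangle hT hK hL (prop_zero hP)
  simp only [Triangle.mk_obj₁, Triangle.mk_obj₂, Triangle.mk_obj₃, clTr_zero hP (isZero_zero _), add_zero] at this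
  exact this.symm

theorem prop_shift {K : DerivedCategory A} (n : ℤ) (hK : P K) : P (K⟦n⟧) :=
  (hP _).mpr (H15Site.BddDevissage.cohInBdd_shift C K n ((hP _).mp hK))

theorem clTr_shift_one {K : DerivedCategory A} (hK : P K) : KZero.clTr P (K⟦(1 : ℤ)⟧) = -KZero.clTr P K := by
  have hT := rot_of_distTriang _ (contractible_distinguished K)
  have h : KZero.clTr P (0 : DerivedCategory A) = KZero.clTr P K + KZero.clTr P (K⟦(1 : ℤ)⟧) :=
    clTr_triangle hT hK (prop_zero hP) (prop_shift hP 1 hK)
  rw [clTr_zero hP (isZero_zero _)] at h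
  exact (neg_eq_of_add_eq_zero_right h.symm).symm

theorem clTr_shift {K : DerivedCategory A} (hK : P K) (n : ℤ) :
    KZero.clTr P (K⟦n⟧) = n.negOnePow • KZero.clTr P K := by
  have step : ∀ n : ℤ, KZero.clTr P (K⟦n + 1⟧) = -KZero.clTr P (K⟦n⟧) := fun n => by
    rw [clTr_iso hP ((shiftFunctorAdd (DerivedCategory A) n 1).app K) (prop_shift hP _ hK)]
    exact clTr_shift_one hP (prop_shift hP n hK)
  induction n using Int.inductionOn' (b := 0) with
  | zero =>
    rw [clTr_iso hP ((shiftFunctorZero (DerivedCategory A) ℤ).app K) (prop_shift hP _ hK), Int.negOnePow_zero, one_smul]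
    rfl
  | succ k _ ih => rw [step, ih, Int.negOnePow_succ, Units.neg_smul]
  | pred k _ ih =>
    have h := step (k - 1)
    rw [sub_add_cancel, ih] at h
    rw [show k = k - 1 + 1 by ring, Int.negOnePow_succ, Units.neg_smul, neg_inj] at h
    simpa using h.symm

theorem prop_single (M : A) (n : ℤ) (hM : C M) : P ((singleFunctor A n).obj M) := by
  refine (hP _).mpr ⟨fun i => ?_, ⟨n, inferInstanceAs (DerivedCategory.IsGE _ n)⟩, ⟨n, inferInstanceAs (DerivedCategory.IsLE _ n)⟩⟩
  by_cases hi : i = n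
  · subst hi
    exact C.prop_of_iso ((singleFunctorCompHomologyFunctorIso A i).app M).symm hM
  · refine C.prop_of_iso ((isZero_zero A).iso ?_) C.prop_zero
    rcases lt_or_gt_of_ne hi with h | h
    · exact isZero_of_isGE _ n i h
    · exact isZero_of_isLE _ n i h

/-- `[M] ↦ [M[0]]` -/
theorem exists_toDerived : ∃ φ : KZero.K0sub C →+ KZero.K0tr P, ∀ M, C M →
    φ (KZero.clSub C M) = KZero.clTr P ((singleFunctor A 0).obj M) := by
  let f : FreeAbelianGroup (Subtype C) →+ KZero.K0tr P :=
    FreeAbelianGroup.lift fun M => KZero.clTr P ((singleFunctor A 0).obj M.1)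
  have hf : KZero.relSub C ≤ f.ker := by
    refine (AddSubgroup.closure_le _).mpr ?_
    rintro x ⟨S, h₁, h₂, h₃, hS, rfl⟩
    have := clTr_triangle (P := P) hS.singleTriangle_distinguished (prop_single hP _ 0 h₁) (prop_single hP _ 0 h₂)
      (prop_single hP _ 0 h₃)
    simp only [SetLike.mem_coe, AddMonoidHom.mem_ker, map_sub, f, FreeAbelianGroup.lift_apply_of]
    rw [sub_sub, sub_eq_zero]
    exact this
  refine ⟨QuotientAddGroup.lift _ f hf, fun M hM => ?_⟩
  rw [KZero.clSub, dif_pos hM, QuotientAddGroup.lift_mk]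
  simp [f]

end maps

/-- the alternating sum of the cohomology classes -/
noncomputable def euler (C : ObjectProperty A) (K : DerivedCategory A) : KZero.K0sub C :=
  ∑ᶠ i : ℤ, i.negOnePow • KZero.clSub C ((homologyFunctor A i).obj K)

theorem finite_support_of_bounded {K : DerivedCategory A} (hK : WSerre.cohInBdd C K) {F : ℤ → A → A}
    (hF : ∀ i M, IsZero M → IsZero (F i M)) (hC : ∀ i, C (F i ((homologyFunctor A i).obj K))) :
    (Function.support fun i : ℤ => i.negOnePow • KZero.clSub C (F i ((homologyFunctor A i).obj K))).Finite := by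
  obtain ⟨-, ⟨a, ha⟩, ⟨b, hb⟩⟩ := hK
  haveI : K.IsGE a := ha
  haveI : K.IsLE b := hb
  refine (Set.finite_Icc a b).subset fun i hi => ?_
  by_contra h
  have hz : IsZero ((homologyFunctor A i).obj K) := by
    rw [Set.mem_Icc, not_and_or, not_le, not_le] at h
    rcases h with h | h
    · exact isZero_of_isGE _ a i h
    · exact isZero_of_isLE _ b i h
  refine hi ?_
  dsimp only
  rw [clSub_zero (hF i _ hz) (hC i), smul_zero]

theorem euler_triangle {T : Triangle (DerivedCategory A)} (hT : T ∈ distTriang _) (h₁ : WSerre.cohInBdd C T.obj₁)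
    (h₂ : WSerre.cohInBdd C T.obj₂) (h₃ : WSerre.cohInBdd C T.obj₃) :
    euler C T.obj₂ = euler C T.obj₁ + euler C T.obj₃ := by
  set H := fun (i : ℤ) (K : DerivedCategory A) => (homologyFunctor A i).obj K
  let a : ℤ → KZero.K0sub C := fun i => KZero.clSub C (kernel ((homologyFunctor A i).map T.mor₁))
  let b : ℤ → KZero.K0sub C := fun i => KZero.clSub C (kernel ((homologyFunctor A i).map T.mor₂))
  let c : ℤ → KZero.K0sub C := fun i => KZero.clSub C (kernel (HomologySequence.δ T i (i + 1)))
  have eX : ∀ i, KZero.clSub C (H i T.obj₁) = a i + b i := fun i =>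
    clSub_eq_kernel_add C _ _ _ (HomologySequence.exact₂ T hT i) (h₁.1 i) (h₂.1 i) (h₃.1 i)
  have eY : ∀ i, KZero.clSub C (H i T.obj₂) = b i + c i := fun i =>
    clSub_eq_kernel_add C _ _ _ (HomologySequence.exact₃ T hT i (i + 1)) (h₂.1 i) (h₃.1 i) (h₁.1 (i + 1))
  have eZ : ∀ i, KZero.clSub C (H i T.obj₃) = c i + a (i + 1) := fun i =>
    clSub_eq_kernel_add C _ _ _ (HomologySequence.exact₁ T hT i (i + 1)) (h₃.1 i) (h₁.1 (i + 1)) (h₂.1 (i + 1))
  have hz : ∀ {X Y : A} (f : X ⟶ Y), IsZero X → IsZero (kernel f) := fun f hX =>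
    (IsZero.iff_id_eq_zero _).2 (by rw [← cancel_mono (kernel.ι f)]; exact hX.eq_of_tgt _ _)
  have fin : ∀ (K : DerivedCategory A), WSerre.cohInBdd C K → ∀ F : ℤ → KZero.K0sub C,
      (∀ i, IsZero (H i K) → F i = 0) → (Function.support fun i : ℤ => i.negOnePow • F i).Finite := by
    intro K hK F hF
    obtain ⟨-, ⟨a₀, ha⟩, ⟨b₀, hb⟩⟩ := hK
    haveI : K.IsGE a₀ := ha
    haveI : K.IsLE b₀ := hb
    refine (Set.finite_Icc a₀ b₀).subset fun i hi => ?_
    by_contra h
    refine hi ?_
    dsimp only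
    rw [hF i, smul_zero]
    rw [Set.mem_Icc, not_and_or, not_le, not_le] at h
    rcases h with h | h
    · exact isZero_of_isGE _ a₀ i h
    · exact isZero_of_isLE _ b₀ i h
  have fa := fin _ h₁ a fun i h => clSub_zero (hz _ h) (prop_kernel C _ (h₁.1 i) (h₂.1 i))
  have fb := fin _ h₂ b fun i h => clSub_zero (hz _ h) (prop_kernel C _ (h₂.1 i) (h₃.1 i))
  have fc := fin _ h₃ c fun i h => clSub_zero (hz _ h) (prop_kernel C _ (h₃.1 i) (h₁.1 (i + 1)))
  let a' : ℤ → KZero.K0sub C := fun i => i.negOnePow • a (i + 1)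
  have ha' : a' = fun i => -((i + 1).negOnePow • a (i + 1)) := funext fun i => by
    simp [a', Int.negOnePow_succ, Units.neg_smul]
  have fa' : (Function.support a').Finite := by
    rw [ha']
    refine Set.Finite.subset (fa.preimage ((Equiv.addRight (1 : ℤ)).injective.injOn)) fun i hi => ?_
    simpa using hi
  have hsum : ∑ᶠ i, a' i = -∑ᶠ i : ℤ, i.negOnePow • a i := by
    rw [ha', ← finsum_neg_distrib]
    exact finsum_comp_equiv (Equiv.addRight (1 : ℤ)) (f := fun i : ℤ => -(i.negOnePow • a i))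
  simp only [euler]
  rw [finsum_congr fun i => congrArg (i.negOnePow • ·) (eX i), finsum_congr fun i => congrArg (i.negOnePow • ·) (eY i),
    finsum_congr fun i => congrArg (i.negOnePow • ·) (eZ i)]
  simp only [smul_add]
  rw [finsum_add_distrib fa fb, finsum_add_distrib fb fc, finsum_add_distrib fc fa', hsum]
  abel

theorem euler_single (M : A) (n : ℤ) (hM : C M) :
    euler C ((singleFunctor A n).obj M) = n.negOnePow • KZero.clSub C M := by
  rw [euler, finsum_eq_single _ n fun i hi => ?_]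
  · exact congrArg _ (clSub_iso ((singleFunctorCompHomologyFunctorIso A n).app M)
      (C.prop_of_iso ((singleFunctorCompHomologyFunctorIso A n).app M).symm hM) hM (isZero_zero A) C.prop_zero)
  · have hz : IsZero ((homologyFunctor A i).obj ((singleFunctor A n).obj M)) := by
      rcases lt_or_gt_of_ne hi with h | h
      · exact isZero_of_isGE _ n i h
      · exact isZero_of_isLE _ n i h
    rw [clSub_zero hz (C.prop_of_iso ((isZero_zero A).iso hz) C.prop_zero), smul_zero]

/-- `K₀` of a weak Serre subcategory is `K₀` of the bounded objects with cohomology in it -/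
theorem exists_equiv (hP : ∀ K, P K ↔ WSerre.cohInBdd C K) :
    ∃ φ : KZero.K0sub C ≃+ KZero.K0tr P, ∀ M, C M →
      φ (KZero.clSub C M) = KZero.clTr P ((singleFunctor A 0).obj M) := by
  obtain ⟨φ, hφ⟩ := exists_toDerived hP
  let g : FreeAbelianGroup (Subtype P) →+ KZero.K0sub C := FreeAbelianGroup.lift fun K => euler C K.1
  have hg : KZero.relTr P ≤ g.ker := by
    refine (AddSubgroup.closure_le _).mpr ?_
    rintro x ⟨T, h₁, h₂, h₃, hT, rfl⟩
    simp only [SetLike.mem_coe, AddMonoidHom.mem_ker, map_sub, g, FreeAbelianGroup.lift_apply_of]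
    rw [sub_sub, sub_eq_zero]
    exact euler_triangle hT ((hP _).mp h₁) ((hP _).mp h₂) ((hP _).mp h₃)
  let ψ := QuotientAddGroup.lift _ g hg
  have hψ : ∀ K, P K → ψ (KZero.clTr P K) = euler C K := fun K hK => by
    rw [KZero.clTr, dif_pos hK, QuotientAddGroup.lift_mk]
    simp [g]
  have hind : ∀ K, WSerre.cohInBdd C K → ∀ n : ℤ, P (K⟦n⟧) ∧ φ (euler C (K⟦n⟧)) = KZero.clTr P (K⟦n⟧) := by
    have hsingle : ∀ (M : A) (m : ℤ), C M → P ((singleFunctor A m).obj M) ∧
        φ (euler C ((singleFunctor A m).obj M)) = KZero.clTr P ((singleFunctor A m).obj M) := fun M m hM => by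
      refine ⟨prop_single hP M m hM, ?_⟩
      rw [euler_single M m hM, Units.smul_def, map_zsmul, hφ M hM,
        ← clTr_iso hP (((singleFunctors A).shiftIso (-m) m 0 (by simp)).app M) (prop_shift hP _ (prop_single hP M 0 hM))]
      rw [← Units.smul_def]
      exact ((clTr_shift hP (prop_single hP M 0 hM) (-m)).trans (by rw [Int.negOnePow_neg])).symm
    have hiso : ∀ {K L : DerivedCategory A}, (K ≅ L) → P K → φ (euler C K) = KZero.clTr P K →
        P L ∧ φ (euler C L) = KZero.clTr P L := fun {K L} e hK h => by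
      have hL : P L := (hP _).mpr (H15Site.BddDevissage.cohInBdd_of_iso C e ((hP _).mp hK))
      refine ⟨hL, ?_⟩
      rw [← hψ L hL, ← clTr_iso hP e hK, hψ K hK, h]
    intro K hK
    refine H15Site.BddDevissage.induction_bounded C
      (fun K => ∀ n : ℤ, P (K⟦n⟧) ∧ φ (euler C (K⟦n⟧)) = KZero.clTr P (K⟦n⟧)) ?_ ?_ ?_ ?_ K hK
    · exact fun {X Y} e h n => hiso ((shiftFunctor _ n).mapIso e) (h n).1 (h n).2
    · exact fun X m h n => hiso ((shiftFunctorAdd (DerivedCategory A) m n).app X) (h (m + n)).1 (h (m + n)).2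
    · intro T hT h₁ h₃ n
      have hTn := Triangle.shift_distinguished T hT n
      have hc : P (T.obj₂⟦n⟧) := (hP _).mpr (H15Site.BddDevissage.cohInBdd_obj₂ C _ hTn
        ((hP _).mp (h₁ n).1) ((hP _).mp (h₃ n).1))
      refine ⟨hc, ?_⟩
      have e := euler_triangle hTn ((hP _).mp (h₁ n).1) ((hP _).mp hc) ((hP _).mp (h₃ n).1)
      have e' := clTr_triangle (P := P) hTn (h₁ n).1 hc (h₃ n).1
      change euler C (T.obj₂⟦n⟧) = euler C (T.obj₁⟦n⟧) + euler C (T.obj₃⟦n⟧) at e
      change KZero.clTr P (T.obj₂⟦n⟧) = KZero.clTr P (T.obj₁⟦n⟧) + KZero.clTr P (T.obj₃⟦n⟧) at e'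
      rw [e, map_add, (h₁ n).2, (h₃ n).2, e']
    · intro M hM n
      exact hiso (((singleFunctors A).shiftIso n (-n) 0 (by simp)).app M).symm (hsingle M (-n) hM).1 (hsingle M (-n) hM).2
  refine ⟨AddEquiv.ofBijective φ ⟨?_, ?_⟩, fun M hM => hφ M hM⟩
  · refine Function.LeftInverse.injective (g := ψ) fun x => ?_
    obtain ⟨x, rfl⟩ := QuotientAddGroup.mk_surjective x
    induction x using FreeAbelianGroup.induction_on with
    | zero => simp
    | of M =>
      obtain ⟨M, hM⟩ := M
      have e : (QuotientAddGroup.mk (FreeAbelianGroup.of ⟨M, hM⟩) : KZero.K0sub C) = KZero.clSub C M := by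
        rw [KZero.clSub, dif_pos hM]
      rw [e, hφ M hM, hψ _ (prop_single hP M 0 hM), euler_single M 0 hM, Int.negOnePow_zero, one_smul]
    | neg a ha => rw [QuotientAddGroup.mk_neg, map_neg, map_neg, ha]
    | add a b ha hb => rw [QuotientAddGroup.mk_add, map_add, map_add, ha, hb]
  · refine Function.RightInverse.surjective (g := ψ) fun x => ?_
    obtain ⟨x, rfl⟩ := QuotientAddGroup.mk_surjective x
    induction x using FreeAbelianGroup.induction_on with
    | zero => simp
    | of K =>
      obtain ⟨K, hK⟩ := K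
      have e : (QuotientAddGroup.mk (FreeAbelianGroup.of ⟨K, hK⟩) : KZero.K0tr P) = KZero.clTr P K := by
        rw [KZero.clTr, dif_pos hK]
      obtain ⟨h0, h0'⟩ := hind K ((hP _).mp hK) 0
      have ei : K⟦(0 : ℤ)⟧ ≅ K := (shiftFunctorZero (DerivedCategory A) ℤ).app K
      rw [e, ← clTr_iso hP ei h0, hψ _ h0]
      exact h0'
    | neg a ha => rw [QuotientAddGroup.mk_neg, map_neg, map_neg, ha]
    | add a b ha hb => rw [QuotientAddGroup.mk_add, map_add, map_add, ha, hb]

end Groth.Agent.H27KZero
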