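import Groth.Agent.H27KZero.Devissage
import Mathlib

/-!
# `K₀` of finite modules: generic lengths, and the node `k[x,y]/(xy)`
-/

set_option autoImplicit false
set_option linter.style.haveILetI false

universe u

open CategoryTheory CategoryTheory.Limits

namespace Groth.Agent.H27KZero.Node

variable {A : Type u} [CommRing A]

abbrev Fin' (A : Type u) [CommRing A] : ObjectProperty (ModuleCat.{u} A) := fun M => Module.Finite A M

theorem cl_add {M₁ M₂ M₃ : Type u} [AddCommGroup M₁] [Module A M₁] [AddCommGroup M₂] [Module A M₂]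
    [AddCommGroup M₃] [Module A M₃] [Module.Finite A M₁] [Module.Finite A M₂] [Module.Finite A M₃]
    (f : M₁ →ₗ[A] M₂) (g : M₂ →ₗ[A] M₃) (hf : Function.Injective f) (hg : Function.Surjective g)
    (he : Function.Exact f g) :
    KZero.clSub (Fin' A) (ModuleCat.of A M₂) =
      KZero.clSub (Fin' A) (ModuleCat.of A M₁) + KZero.clSub (Fin' A) (ModuleCat.of A M₃) := by
  haveI : Mono (ModuleCat.ofHom f) := (ModuleCat.mono_iff_injective _).mpr hf
  haveI : Epi (ModuleCat.ofHom g) := (ModuleCat.epi_iff_surjective _).mpr hg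
  have hS : (ShortComplex.mk (ModuleCat.ofHom f) (ModuleCat.ofHom g)
      (ModuleCat.hom_ext he.linearMap_comp_eq_zero)).ShortExact :=
    ShortComplex.ShortExact.mk' ((ShortComplex.ShortExact.moduleCat_exact_iff_function_exact _).mpr he)
      inferInstance inferInstance
  exact clSub_shortExact hS ‹_› ‹_› ‹_›

theorem cl_equiv {M N : Type u} [AddCommGroup M] [Module A M] [AddCommGroup N] [Module A N]
    [Module.Finite A M] (e : M ≃ₗ[A] N) :
    KZero.clSub (Fin' A) (ModuleCat.of A M) = KZero.clSub (Fin' A) (ModuleCat.of A N) :=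
  clSub_iso e.toModuleIso ‹_› (Module.Finite.equiv e)
    (ModuleCat.isZero_of_subsingleton (ModuleCat.of A PUnit.{u+1})) (inferInstanceAs (Module.Finite A PUnit.{u+1}))

theorem cl_subsingleton (M : Type u) [AddCommGroup M] [Module A M] [Subsingleton M] :
    KZero.clSub (Fin' A) (ModuleCat.of A M) = 0 :=
  clSub_zero (ModuleCat.isZero_of_subsingleton _) (inferInstanceAs (Module.Finite A M))

/-- quotient by a prime in a one dimensional PID quotient has class zero -/
theorem cl_quot_eq_zero {B : Type u} [CommRing B] [IsDomain B] [IsPrincipalIdealRing B]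
    (π : A →+* B) (hπ : Function.Surjective π) (J : Ideal A) (hJ : RingHom.ker π < J) :
    KZero.clSub (Fin' A) (ModuleCat.of A (A ⧸ J)) = 0 := by
  letI : Algebra A B := π.toAlgebra
  haveI : Module.Finite A B := Module.Finite.of_surjective (Algebra.linearMap A B) hπ
  obtain ⟨f, hf⟩ := (IsPrincipalIdealRing.principal (J.map π)).principal
  have hf0 : f ≠ 0 := by
    rintro rfl
    refine hJ.not_ge fun a ha => ?_
    have : π a ∈ J.map π := Ideal.mem_map_of_mem π ha
    rw [hf] at this
    simpa using this
  let g : B →ₗ[A] B := { toFun := fun b => f * b, map_add' := fun a b => mul_add f a b,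
                         map_smul' := fun a b => by simp [mul_smul_comm] }
  let q : B →ₗ[A] B ⧸ J.map π := (Ideal.Quotient.mkₐ A (J.map π)).toLinearMap
  have hq : Function.Surjective q := Ideal.Quotient.mk_surjective
  have hex : Function.Exact g q := fun b => by
    refine (Ideal.Quotient.eq_zero_iff_mem).trans ?_
    rw [hf, Ideal.submodule_span_eq, Ideal.mem_span_singleton]
    exact ⟨fun ⟨c, hc⟩ => ⟨c, hc.symm⟩, fun ⟨c, hc⟩ => ⟨c, hc.symm⟩⟩
  haveI : Module.Finite A (B ⧸ J.map π) := Module.Finite.of_surjective q hq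
  have := cl_add g q (fun a b h => mul_left_cancel₀ hf0 h) hq hex
  rw [left_eq_add] at this
  let e : (A ⧸ J) →ₗ[A] B ⧸ J.map π := Submodule.liftQ J (q ∘ₗ Algebra.linearMap A B)
    (fun a ha => (Ideal.Quotient.eq_zero_iff_mem).mpr (Ideal.mem_map_of_mem π ha))
  have he : Function.Bijective e := by
    refine ⟨?_, fun y => ?_⟩
    · rw [← LinearMap.ker_eq_bot, Submodule.ker_liftQ_eq_bot']
      refine le_antisymm ?_ ?_ <;> intro a ha
      · exact (Ideal.Quotient.eq_zero_iff_mem).mpr (Ideal.mem_map_of_mem π ha)
      · have : π a ∈ J.map π := (Ideal.Quotient.eq_zero_iff_mem).mp ha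
        obtain ⟨a', ha', heq⟩ := (Ideal.mem_map_iff_of_surjective π hπ).mp this
        have hk : a - a' ∈ J := hJ.le (by rw [RingHom.mem_ker, map_sub, heq, sub_self])
        simpa using J.add_mem hk ha'
    · obtain ⟨b, rfl⟩ := hq y
      obtain ⟨a, rfl⟩ := hπ b
      exact ⟨Submodule.Quotient.mk a, rfl⟩
  rw [cl_equiv (LinearEquiv.ofBijective e he)]
  exact this

/-- length at a prime `q` -/
noncomputable def len (q : Ideal A) [q.IsPrime] (M : Type u) [AddCommGroup M] [Module A M] : ℤ :=
  ((Module.length (Localization.AtPrime q) (LocalizedModule q.primeCompl M)).toNat : ℤ)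

variable (q : Ideal A) [q.IsPrime] [IsNoetherianRing A]

theorem exists_lenHom [IsArtinianRing (Localization.AtPrime q)] :
    ∃ r : KZero.K0sub (Fin' A) →+ ℤ, ∀ (M : Type u) [AddCommGroup M] [Module A M] [Module.Finite A M],
      r (KZero.clSub (Fin' A) (ModuleCat.of A M)) = len q M := by
  let f : FreeAbelianGroup (Subtype (Fin' A)) →+ ℤ := FreeAbelianGroup.lift fun M => len q M.1
  have hf : KZero.relSub (Fin' A) ≤ f.ker := by
    refine (AddSubgroup.closure_le _).mpr ?_
    rintro x ⟨S, h₁, h₂, h₃, hS, rfl⟩
    haveI : Module.Finite A S.X₁ := h₁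
    haveI : Module.Finite A S.X₂ := h₂
    haveI : Module.Finite A S.X₃ := h₃
    have he : Function.Exact S.f.hom S.g.hom := (ShortComplex.ShortExact.moduleCat_exact_iff_function_exact S).mp hS.exact
    have := Module.length_eq_add_of_exact (LocalizedModule.map q.primeCompl S.f.hom) (LocalizedModule.map q.primeCompl S.g.hom)
      (LocalizedModule.map_injective _ _ ((ModuleCat.mono_iff_injective _).mp hS.mono_f))
      (LocalizedModule.map_surjective _ _ ((ModuleCat.epi_iff_surjective _).mp hS.epi_g))
      (LocalizedModule.map_exact _ _ _ he)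
    have hfin : ∀ (M : Type u) [AddCommGroup M] [Module A M] [Module.Finite A M],
        Module.length (Localization.AtPrime q) (LocalizedModule q.primeCompl M) ≠ ⊤ := fun M _ _ _ =>
      Module.length_ne_top
    simp only [SetLike.mem_coe, AddMonoidHom.mem_ker, map_sub, f, FreeAbelianGroup.lift_apply_of, len, this,
      ENat.toNat_add (hfin S.X₁) (hfin S.X₃)]
    push_cast
    ring
  refine ⟨QuotientAddGroup.lift _ f hf, fun M _ _ hM => ?_⟩
  rw [KZero.clSub, dif_pos hM, QuotientAddGroup.lift_mk]
  simp [f]

omit [IsNoetherianRing A] in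
theorem len_eq_zero (M : Type u) [AddCommGroup M] [Module A M] {a : A} (ha : a ∉ q) (h : ∀ m : M, a • m = 0) :
    len q M = 0 := by
  haveI : Subsingleton (LocalizedModule q.primeCompl M) :=
    (LocalizedModule.subsingleton_iff).mpr fun m => ⟨a, ha, h m⟩
  rw [len, Module.length_eq_zero]
  rfl

omit [IsNoetherianRing A] in
theorem len_quot_self (hF : IsField (Localization.AtPrime q)) : len q (A ⧸ q) = 1 := by
  let L := Localization.AtPrime q
  let S := q.primeCompl
  let one : LocalizedModule S (A ⧸ q) := LocalizedModule.mk (Submodule.Quotient.mk 1) 1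
  let φ : L →ₗ[L] LocalizedModule S (A ⧸ q) := LinearMap.toSpanSingleton L _ one
  have hone : one ≠ 0 := fun h => by
    obtain ⟨c, hc⟩ := LocalizedModule.mk_eq.mp (h.trans (LocalizedModule.zero_mk (1 : S)).symm)
    simp only [one_smul, smul_zero] at hc
    rw [Submonoid.smul_def, ← Submodule.Quotient.mk_smul, Submodule.Quotient.mk_eq_zero, smul_eq_mul, _root_.mul_one] at hc
    exact c.2 hc
  have hsurj : Function.Surjective φ := fun x => by
    induction x using LocalizedModule.induction_on with
    | h m s =>
      obtain ⟨a, rfl⟩ := Submodule.Quotient.mk_surjective _ m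
      refine ⟨Localization.mk a s, ?_⟩
      simp only [φ, one, LinearMap.toSpanSingleton_apply]
      rw [Localization.mk_eq_mk', ← Localization.mk_eq_mk', LocalizedModule.mk_smul_mk, _root_.mul_one, ← Submodule.Quotient.mk_smul, smul_eq_mul, _root_.mul_one]
  haveI : IsSimpleModule L L := isSimpleModule_iff_quot_maximal.mpr ⟨⊥, by
    letI := hF.toField
    exact Ideal.bot_isMaximal, ⟨(Submodule.quotEquivOfEqBot (⊥ : Ideal L) rfl).symm⟩⟩
  have hinj : Function.Injective φ := by
    refine (LinearMap.injective_or_eq_zero φ).resolve_right fun h => hone ?_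
    rw [← LinearMap.toSpanSingleton_apply_one L _ one]
    exact LinearMap.congr_fun h 1
  rw [len, ← (LinearEquiv.ofBijective φ ⟨hinj, hsurj⟩).length_eq, Module.length_eq_one]
  rfl

/-! ### the node -/

variable (k : Type u) [Field k]

abbrev R := MvPolynomial (Fin 2) k ⧸ Ideal.span {(MvPolynomial.X 0 * MvPolynomial.X 1 : MvPolynomial (Fin 2) k)}

noncomputable abbrev x (i : Fin 2) : R k :=
  Ideal.Quotient.mk (Ideal.span {(MvPolynomial.X 0 * MvPolynomial.X 1 : MvPolynomial (Fin 2) k)}) (MvPolynomial.X i)

abbrev other (i : Fin 2) : Fin 2 := 1 - i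

theorem x_mul (i : Fin 2) : x k i * x k (other i) = 0 := by
  rw [← map_mul, Ideal.Quotient.eq_zero_iff_mem, Ideal.mem_span_singleton]
  fin_cases i <;> simp [other, mul_comm]

/-- restriction to the line `x_i = 0` -/
noncomputable def restr (i : Fin 2) : MvPolynomial (Fin 2) k →ₐ[k] Polynomial k :=
  MvPolynomial.aeval fun j => if j = i then 0 else Polynomial.X

noncomputable def line (i : Fin 2) : R k →+* Polynomial k :=
  Ideal.Quotient.lift _ (restr k i).toRingHom fun p hp => by
    obtain ⟨c, rfl⟩ := Ideal.mem_span_singleton'.mp hp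
    fin_cases i <;> simp [restr]

theorem line_surjective (i : Fin 2) : Function.Surjective (line k i) := fun p => by
  refine ⟨Ideal.Quotient.mk _ (Polynomial.aeval (MvPolynomial.X (other i)) p), ?_⟩
  show restr k i (Polynomial.aeval (MvPolynomial.X (other i)) p) = p
  rw [← Polynomial.aeval_algHom_apply]
  have : restr k i (MvPolynomial.X (other i)) = Polynomial.X := by fin_cases i <;> simp [restr, other]
  rw [this, Polynomial.aeval_X_left_apply]

theorem ker_line (i : Fin 2) : RingHom.ker (line k i) = Ideal.span {x k i} := by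
  refine le_antisymm (fun a ha => ?_) ?_
  · obtain ⟨p, rfl⟩ := Ideal.Quotient.mk_surjective a
    have hmem : ∀ p : MvPolynomial (Fin 2) k,
        p - Polynomial.aeval (MvPolynomial.X (other i)) (restr k i p) ∈ Ideal.span {(MvPolynomial.X i : MvPolynomial (Fin 2) k)} := by
      intro p
      induction p using MvPolynomial.induction_on with
      | C c => simp [restr]
      | add p q hp hq =>
        rw [map_add, map_add, add_sub_add_comm]
        exact Ideal.add_mem _ hp hq
      | mul_X p j hp =>
        rw [map_mul, map_mul]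
        by_cases hj : j = i
        · subst hj
          simp only [restr, MvPolynomial.aeval_X, ↓reduceIte, map_zero, mul_zero, sub_zero]
          exact Ideal.mul_mem_left _ _ (Ideal.subset_span rfl)
        · have : j = other i := by fin_cases i <;> fin_cases j <;> simp_all [other]
          subst this
          simp only [restr, MvPolynomial.aeval_X, if_neg hj, Polynomial.aeval_X, ← sub_mul]
          exact Ideal.mul_mem_right _ _ hp
    have h0 : restr k i p = 0 := ha
    have := hmem p
    rw [h0, map_zero, sub_zero, Ideal.mem_span_singleton] at this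
    exact Ideal.mem_span_singleton.mpr (map_dvd _ this)
  · rw [Ideal.span_le, Set.singleton_subset_iff]
    show restr k i (MvPolynomial.X i) = 0
    simp [restr]

instance prime_x (i : Fin 2) : (Ideal.span {x k i}).IsPrime := ker_line k i ▸ RingHom.ker_isPrime (line k i)

theorem x_other_notMem (i : Fin 2) : x k (other i) ∉ Ideal.span {x k i} := by
  rw [← ker_line, RingHom.mem_ker]
  show restr k i (MvPolynomial.X (other i)) ≠ 0
  fin_cases i <;> simp [restr, other]

theorem isField (i : Fin 2) : IsField (Localization.AtPrime (Ideal.span {x k i})) := by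
  rw [IsLocalRing.isField_iff_maximalIdeal_eq, ← Localization.AtPrime.map_eq_maximalIdeal, Ideal.map_span,
    Set.image_singleton, Ideal.span_singleton_eq_bot]
  refine (IsLocalization.map_eq_zero_iff (Ideal.span {x k i}).primeCompl _ _).mpr ⟨⟨_, x_other_notMem k i⟩, ?_⟩
  show x k (other i) * x k i = 0
  rw [mul_comm, x_mul]

theorem artinian (i : Fin 2) : IsArtinianRing (Localization.AtPrime (Ideal.span {x k i})) := by
  have h := IsLocalRing.isField_iff_maximalIdeal_eq.mp (isField k i)
  refine (isArtinianRing_iff_isNilpotent_maximalIdeal (Localization.AtPrime (Ideal.span {x k i}))).mpr ⟨1, ?_⟩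
  rw [h, pow_one]
  exact Ideal.zero_eq_bot.symm

theorem bijective :
    Function.Bijective (fun p : ℤ × ℤ =>
      p.1 • KZero.clSub (Fin' (R k)) (ModuleCat.of (R k) (R k ⧸ Ideal.span {x k 0})) +
        p.2 • KZero.clSub (Fin' (R k)) (ModuleCat.of (R k) (R k ⧸ Ideal.span {x k 1}))) := by
  let G : Fin 2 → KZero.K0sub (Fin' (R k)) := fun i =>
    KZero.clSub (Fin' (R k)) (ModuleCat.of (R k) (R k ⧸ Ideal.span {x k i}))
  let φ : ℤ × ℤ →+ KZero.K0sub (Fin' (R k)) :=
    AddMonoidHom.coprod (zmultiplesHom _ (G 0)) (zmultiplesHom _ (G 1))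
  suffices h : Function.Bijective φ by
    convert h using 1
    ext p
    simp [φ, G]
  refine ⟨?_, ?_⟩
  · haveI := artinian k
    obtain ⟨r₀, h₀⟩ := exists_lenHom (Ideal.span {x k 0})
    obtain ⟨r₁, h₁⟩ := exists_lenHom (Ideal.span {x k 1})
    have hz : ∀ i, len (Ideal.span {x k i}) (R k ⧸ Ideal.span {x k (other i)}) = 0 := fun i =>
      len_eq_zero _ _ (x_other_notMem k i) fun m => by
        obtain ⟨b, rfl⟩ := Submodule.Quotient.mk_surjective _ m
        rw [← Submodule.Quotient.mk_smul, Submodule.Quotient.mk_eq_zero, smul_eq_mul]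
        exact Ideal.mul_mem_right _ _ (Ideal.subset_span rfl)
    refine Function.LeftInverse.injective (g := fun z => (r₀ z, r₁ z)) fun p => ?_
    have e1 : len (Ideal.span {x k 0}) (R k ⧸ Ideal.span {x k 1}) = 0 := hz 0
    have e2 : len (Ideal.span {x k 1}) (R k ⧸ Ideal.span {x k 0}) = 0 := hz 1
    simp [φ, G, h₀, h₁, e1, e2, len_quot_self _ (isField k 0), len_quot_self _ (isField k 1)]
  · rw [← AddMonoidHom.range_eq_top]
    refine closure_eq_top _ fun M hM => ?_
    have key : ∀ i (J : Ideal (R k)), x k i ∈ J → KZero.clSub (Fin' (R k)) (ModuleCat.of (R k) (R k ⧸ J)) ∈ φ.range := by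
      intro i J hJ
      rcases (show Ideal.span {x k i} ≤ J from (Ideal.span_le).mpr (by simpa using hJ)).eq_or_lt with h | h
      · subst h
        fin_cases i
        · exact ⟨(1, 0), by simp [φ, G]⟩
        · exact ⟨(0, 1), by simp [φ, G]⟩
      · rw [cl_quot_eq_zero (line k i) (line_surjective k i) J (ker_line k i ▸ h)]
        exact φ.range.zero_mem
    exact IsNoetherianRing.induction_on_isQuotientEquivQuotientPrime (R k) hM
      (motive := fun N _ _ _ => KZero.clSub (Fin' (R k)) (ModuleCat.of (R k) N) ∈ φ.range)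
      (fun N _ _ _ _ => by rw [cl_subsingleton]; exact φ.range.zero_mem)
      (fun N _ _ _ p e => by
        rw [cl_equiv e]
        rcases p.2.mem_or_mem (show x k 0 * x k (other 0) ∈ p.1 by rw [x_mul]; exact p.1.zero_mem) with h | h
        · exact key 0 _ h
        · exact key _ _ h)
      (fun N₁ _ _ _ N₂ _ _ _ N₃ _ _ _ f g hf hg he a b => by
        rw [cl_add f g hf hg he]; exact φ.range.add_mem a b)

end Groth.Agent.H27KZero.Node
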