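import Groth.Agent.H27KZero.ComplexEuler
import Groth.Agent.H16Derived.ProjLift
import Groth.Agent.H4DR.TorAmp.Perfect
import Groth.Prelude.Def_DRing2
import Mathlib

/-!
# `K₀` of finite projective modules is `K₀` of perfect complexes
-/

set_option autoImplicit false
set_option linter.style.haveILetI false

universe u

open CategoryTheory CategoryTheory.Limits CategoryTheory.Pretriangulated

attribute [local instance] HasDerivedCategory.standard

namespace Groth.Agent.H27KZero.PerfRing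

variable {R : Type u} [CommRing R]

/-- finite projective modules -/
abbrev FinProj (R : Type u) [CommRing R] : ObjectProperty (ModuleCat.{u} R) :=
  fun M => Module.Finite R M ∧ Module.Projective R M

/-- perfect objects -/
abbrev Perf (R : Type u) [CommRing R] : ObjectProperty (Dual.D R) := fun K => DRing.IsPerfect R K

theorem adm : Cx.Adm (FinProj R) where
  zero Z hZ := by
    haveI := ModuleCat.subsingleton_of_isZero hZ
    exact ⟨inferInstance, inferInstance⟩
  ext {S} hS h₁ h₃ := by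
    obtain ⟨_, _⟩ := h₁
    obtain ⟨_, _⟩ := h₃
    haveI : Projective S.X₃ := (IsProjective.iff_projective S.X₃).mp ‹_›
    let e : S.X₂ ≅ ModuleCat.of R (S.X₁ × S.X₃) :=
      (hS.splittingOfProjective).isoBinaryBiproduct ≪≫ ModuleCat.biprodIsoProd _ _
    exact ⟨Module.Finite.equiv e.toLinearEquiv.symm, Module.Projective.of_equiv e.toLinearEquiv.symm⟩
  ker {S} hS h₂ h₃ := by
    obtain ⟨_, _⟩ := h₂
    obtain ⟨_, _⟩ := h₃
    haveI : Projective S.X₃ := (IsProjective.iff_projective S.X₃).mp ‹_›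
    let s := hS.splittingOfProjective
    have hr : s.r.hom ∘ₗ S.f.hom = LinearMap.id := congrArg ModuleCat.Hom.hom s.f_r
    exact ⟨Module.Finite.of_surjective s.r.hom fun x => ⟨S.f.hom x, congrArg (fun g => g x) hr⟩,
      Module.Projective.of_split S.f.hom s.r.hom hr⟩

theorem bdd_of_perfect {E : DRing.Cx R} {a b : ℤ} (hv : DRing.VanishesOutside E a b)
    (hp : DRing.TermwiseFiniteProjective E) : Cx.Bdd (FinProj R) E := ⟨hp, a, b, hv⟩

theorem perfect_Q (E : CochainComplex (ModuleCat.{u} R) ℤ) (hE : Cx.Bdd (FinProj R) E) :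
    Perf R (DerivedCategory.Q.obj E) := by
  obtain ⟨hp, a, b, hv⟩ := hE
  exact ⟨E, a, b, hv, hp, ⟨Iso.refl _⟩⟩

theorem exists_rep {K : Dual.D R} (h : Perf R K) :
    ∃ E : CochainComplex (ModuleCat.{u} R) ℤ, Cx.Bdd (FinProj R) E ∧ Nonempty (DerivedCategory.Q.obj E ≅ K) := by
  obtain ⟨E, a, b, hv, hp, e⟩ := h
  exact ⟨E, bdd_of_perfect hv hp, e⟩

theorem exists_map {E F : CochainComplex (ModuleCat.{u} R) ℤ} (hE : Cx.Bdd (FinProj R) E)
    (g : DerivedCategory.Q.obj E ⟶ DerivedCategory.Q.obj F) : ∃ f : E ⟶ F, DerivedCategory.Q.map f = g := by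
  obtain ⟨hp, a, b, hv⟩ := hE
  haveI : E.IsStrictlyLE b := (CochainComplex.isStrictlyLE_iff _ _).2 fun i hi => hv i (Or.inr hi)
  haveI : ∀ i, Projective (E.X i) := fun i => (IsProjective.iff_projective _).mp (hp i).2
  haveI := CochainComplex.isKProjective_of_projective E b
  exact H16Derived.ProjLift.Q_map_surjective E F g

theorem chi_eq_of_iso {E F : CochainComplex (ModuleCat.{u} R) ℤ} (hE : Cx.Bdd (FinProj R) E)
    (hF : Cx.Bdd (FinProj R) F) (e : DerivedCategory.Q.obj E ≅ DerivedCategory.Q.obj F) :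
    Cx.chi (FinProj R) E = Cx.chi (FinProj R) F := by
  obtain ⟨f, hf⟩ := exists_map hE e.hom
  haveI : IsIso (DerivedCategory.Q.map f) := hf ▸ inferInstance
  exact Cx.chi_eq_of_isIso adm f hE hF

theorem closed : Tr.Closed (Perf R) where
  zero Z hZ := by
    obtain ⟨O, hO⟩ := HasZeroObject.zero (C := CochainComplex (ModuleCat.{u} R) ℤ)
    have hX : ∀ i, IsZero (O.X i) := fun i => (HomologicalComplex.eval _ _ i).map_isZero hO
    exact ⟨O, 0, 0, fun i _ => hX i, fun i => adm.zero _ (hX i), ⟨(DerivedCategory.Q.map_isZero hO).iso hZ⟩⟩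
  iso e h := H4DR.TorAmp.isPerfect_of_iso e h
  shift K n h := H4DR.TorAmp.isPerfect_shift n h

theorem exists_equiv :
    ∃ φ : KZero.K0sub (FinProj R) ≃+ KZero.K0tr (Perf R),
      (∀ M : ModuleCat.{u} R, FinProj R M →
        φ (KZero.clSub (FinProj R) M) = KZero.clTr (Perf R) ((DerivedCategory.singleFunctor _ 0).obj M)) ∧
      ∀ E : CochainComplex (ModuleCat.{u} R) ℤ, Cx.Bdd (FinProj R) E →
        φ (Cx.chi (FinProj R) E) = KZero.clTr (Perf R) (DerivedCategory.Q.obj E) := by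
  classical
  have hsingle : ∀ M, FinProj R M → Perf R ((DerivedCategory.singleFunctor _ 0).obj M) := fun M hM =>
    perfect_Q _ (Cx.bdd_single adm M 0 hM)
  obtain ⟨φ, hφ⟩ := Cx.exists_hom (A := ModuleCat.{u} R) adm hsingle
  have hχ : ∀ E : CochainComplex (ModuleCat.{u} R) ℤ, Cx.Bdd (FinProj R) E →
      φ (Cx.chi (FinProj R) E) = KZero.clTr (Perf R) (DerivedCategory.Q.obj E) :=
    fun E hE => Cx.hom_chi adm closed perfect_Q φ hφ hE
  let rep : Subtype (Perf R) → CochainComplex (ModuleCat.{u} R) ℤ := fun K => (exists_rep K.2).choose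
  have hrep : ∀ K, Cx.Bdd (FinProj R) (rep K) ∧ Nonempty (DerivedCategory.Q.obj (rep K) ≅ K.1) := fun K =>
    (exists_rep K.2).choose_spec
  have hind : ∀ (K : Subtype (Perf R)) (E : CochainComplex (ModuleCat.{u} R) ℤ), Cx.Bdd (FinProj R) E →
      (DerivedCategory.Q.obj E ≅ K.1) → Cx.chi (FinProj R) (rep K) = Cx.chi (FinProj R) E := fun K E hE e => by
    obtain ⟨hb, ⟨e'⟩⟩ := hrep K
    exact chi_eq_of_iso hb hE (e' ≪≫ e.symm)
  let g : FreeAbelianGroup (Subtype (Perf R)) →+ KZero.K0sub (FinProj R) :=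
    FreeAbelianGroup.lift fun K => Cx.chi (FinProj R) (rep K)
  have hg : KZero.relTr (Perf R) ≤ g.ker := by
    refine (AddSubgroup.closure_le _).mpr ?_
    rintro x ⟨T, h₁, h₂, h₃, hT, rfl⟩
    obtain ⟨b₁, ⟨e₁⟩⟩ := hrep ⟨_, h₁⟩
    obtain ⟨b₂, ⟨e₂⟩⟩ := hrep ⟨_, h₂⟩
    obtain ⟨f, hf⟩ := exists_map b₁ (e₁.hom ≫ T.mor₁ ≫ e₂.inv)
    let e := isoTriangleOfIso₁₂ _ _ (DerivedCategory.mappingCone_triangle_distinguished f) hT e₁ e₂ (by
      change DerivedCategory.Q.map f ≫ e₂.hom = e₁.hom ≫ T.mor₁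
      rw [hf]; simp)
    have := hind ⟨_, h₃⟩ (CochainComplex.mappingCone f) (Cx.bdd_cone adm f b₁ b₂) (Triangle.π₃.mapIso e)
    simp only [SetLike.mem_coe, AddMonoidHom.mem_ker, map_sub, g, FreeAbelianGroup.lift_apply_of]
    rw [this, Cx.chi_cone adm f b₁ b₂]
    abel
  let ψ := QuotientAddGroup.lift _ g hg
  refine ⟨AddEquiv.ofBijective φ ⟨?_, ?_⟩, hφ, hχ⟩
  · refine Function.LeftInverse.injective (g := ψ) fun x => ?_
    obtain ⟨x, rfl⟩ := QuotientAddGroup.mk_surjective x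
    induction x using FreeAbelianGroup.induction_on with
    | zero => simp
    | of M =>
      obtain ⟨M, hM⟩ := M
      have e : (QuotientAddGroup.mk (FreeAbelianGroup.of ⟨M, hM⟩) : KZero.K0sub (FinProj R)) = KZero.clSub (FinProj R) M := by
        rw [KZero.clSub, dif_pos hM]
      rw [e, hφ M hM, KZero.clTr, dif_pos (hsingle M hM), QuotientAddGroup.lift_mk]
      simp only [g, FreeAbelianGroup.lift_apply_of]
      rw [hind ⟨_, hsingle M hM⟩ _ (Cx.bdd_single adm M 0 hM)
        ((DerivedCategory.singleFunctorIsoCompQ _ 0).app M).symm, Cx.chi_single adm M 0 hM,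
        Int.negOnePow_zero, one_smul]
    | neg a ha => rw [QuotientAddGroup.mk_neg, map_neg, map_neg, ha]
    | add a b ha hb => rw [QuotientAddGroup.mk_add, map_add, map_add, ha, hb]
  · intro x
    obtain ⟨x, rfl⟩ := QuotientAddGroup.mk_surjective x
    induction x using FreeAbelianGroup.induction_on with
    | zero => exact ⟨0, map_zero φ⟩
    | of K =>
      obtain ⟨K, hK⟩ := K
      obtain ⟨hb, ⟨e⟩⟩ := hrep ⟨K, hK⟩
      refine ⟨Cx.chi (FinProj R) (rep ⟨K, hK⟩), ?_⟩
      rw [hχ _ hb, Tr.cl_iso closed e (perfect_Q _ hb), KZero.clTr, dif_pos hK]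
    | neg a ha => exact let ⟨y, hy⟩ := ha; ⟨-y, by rw [map_neg, hy]; rfl⟩
    | add a b ha hb => exact let ⟨y, hy⟩ := ha; let ⟨z, hz⟩ := hb; ⟨y + z, by rw [map_add, hy, hz]; rfl⟩

end Groth.Agent.H27KZero.PerfRing
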