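import Groth.Agent.H27KZero.ComplexEuler
import Groth.Agent.H16Derived.Thomason.Supp
import Groth.Agent.H16Derived.ExtSES
import Groth.Agent.H16Derived.KFlat.PerfCoh
import Groth.Agent.H16Derived.KFlat.PerfTilde
import Groth.Agent.H16Derived.KFlat.PerfSummand
import Groth.Agent.S1036
import Groth.Agent.S1037
import Groth.Prelude.Def_KZero
import Mathlib

/-!
# `K₀` of vector bundles is `K₀` of perfect complexes under the resolution property
-/

set_option autoImplicit false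
set_option linter.style.haveILetI false

universe u

open CategoryTheory CategoryTheory.Limits CategoryTheory.Pretriangulated AlgebraicGeometry

attribute [local instance] HasDerivedCategory.standard

namespace Groth.Agent.H27KZero.PerfScheme

open H16Derived.KFlat.Stalk

variable {X : Scheme.{u}}

/-- vector bundles -/
abbrev Vect (X : Scheme.{u}) : ObjectProperty X.Modules := fun M => FlatMod.IsFinLocFree M

/-- perfect objects -/
abbrev Perf (X : Scheme.{u}) : ObjectProperty (DCoh.D X) := fun K => DCoh.IsPerfect K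

theorem adm : Cx.Adm (Vect X) where
  zero _ hZ := isFinLocFree_of_isZero hZ
  ext hS h₁ h₃ := H16Derived.ExtSES.finLocFree_mid hS h₁ h₃
  ker hS h₂ h₃ := isFinLocFree_left hS h₂ h₃

theorem bdd_of_sp {E : CochainComplex X.Modules ℤ} (h : DCoh.IsStrictlyPerfect E) : Cx.Bdd (Vect X) E := by
  obtain ⟨⟨a, b, hv⟩, hf⟩ := h
  exact ⟨hf, a, b, hv⟩

theorem sp_of_bdd {E : CochainComplex X.Modules ℤ} (h : Cx.Bdd (Vect X) E) : DCoh.IsStrictlyPerfect E := by
  obtain ⟨hf, a, b, hv⟩ := h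
  exact ⟨⟨a, b, hv⟩, hf⟩

theorem perfect_Q (E : CochainComplex X.Modules ℤ) (h : Cx.Bdd (Vect X) E) :
    Perf X (DerivedCategory.Q.obj E) := isPerfect_toD (sp_of_bdd h)

theorem closed : Tr.Closed (Perf X) where
  zero _ hZ := H16Derived.Thomason.isPerfect_zero hZ
  iso e h := isPerfect_of_iso e h
  shift _ n h := isPerfect_shift h n

variable [CompactSpace ↥X] [QuasiSeparatedSpace ↥X] (hX : PerfAux.HasResolutionProperty X)
include hX

theorem exists_rep {K : DCoh.D X} (h : Perf X K) :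
    ∃ E : CochainComplex X.Modules ℤ, Cx.Bdd (Vect X) E ∧ Nonempty (DerivedCategory.Q.obj E ≅ K) := by
  obtain ⟨E, hE, e⟩ := Groth.Agent.S1036.result X hX K h
  exact ⟨E, bdd_of_sp hE, e⟩

theorem exists_roof {E F : CochainComplex X.Modules ℤ} (hE : Cx.Bdd (Vect X) E) (hF : Cx.Bdd (Vect X) F)
    (α : DerivedCategory.Q.obj E ⟶ DerivedCategory.Q.obj F) :
    ∃ (G : CochainComplex X.Modules ℤ) (g : G ⟶ E) (h : G ⟶ F), Cx.Bdd (Vect X) G ∧
      IsIso (DerivedCategory.Q.map g) ∧ DerivedCategory.Q.map g ≫ α = DerivedCategory.Q.map h := by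
  obtain ⟨G, g, h, hG, hg, e⟩ := Groth.Agent.S1037.result X hX E F (sp_of_bdd hE) (sp_of_bdd hF) α
  exact ⟨G, g, h, bdd_of_sp hG, inferInstance, e⟩

theorem chi_eq_of_iso {E F : CochainComplex X.Modules ℤ} (hE : Cx.Bdd (Vect X) E) (hF : Cx.Bdd (Vect X) F)
    (e : DerivedCategory.Q.obj E ≅ DerivedCategory.Q.obj F) : Cx.chi (Vect X) E = Cx.chi (Vect X) F := by
  obtain ⟨G, g, h, hG, hg, he⟩ := exists_roof hX hE hF e.hom
  haveI := hg
  haveI : IsIso (DerivedCategory.Q.map h) := he ▸ inferInstance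
  rw [← Cx.chi_eq_of_isIso adm g hG hE, Cx.chi_eq_of_isIso adm h hG hF]

theorem exists_equiv :
    ∃ φ : KZero.K0sub (Vect X) ≃+ KZero.K0tr (Perf X), ∀ M : X.Modules, Vect X M →
      φ (KZero.clSub (Vect X) M) = KZero.clTr (Perf X) ((DerivedCategory.singleFunctor _ 0).obj M) := by
  classical
  have hsingle : ∀ M, Vect X M → Perf X ((DerivedCategory.singleFunctor _ 0).obj M) := fun M hM =>
    closed.iso ((DerivedCategory.singleFunctorIsoCompQ _ 0).app M).symm (perfect_Q _ (Cx.bdd_single adm M 0 hM))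
  obtain ⟨φ, hφ⟩ := Cx.exists_hom (A := X.Modules) adm hsingle
  have hχ : ∀ E : CochainComplex X.Modules ℤ, Cx.Bdd (Vect X) E →
      φ (Cx.chi (Vect X) E) = KZero.clTr (Perf X) (DerivedCategory.Q.obj E) :=
    fun E hE => Cx.hom_chi adm closed perfect_Q φ hφ hE
  let rep : Subtype (Perf X) → CochainComplex X.Modules ℤ := fun K => (exists_rep hX K.2).choose
  have hrep : ∀ K, Cx.Bdd (Vect X) (rep K) ∧ Nonempty (DerivedCategory.Q.obj (rep K) ≅ K.1) := fun K =>
    (exists_rep hX K.2).choose_spec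
  have hind : ∀ (K : Subtype (Perf X)) (E : CochainComplex X.Modules ℤ), Cx.Bdd (Vect X) E →
      (DerivedCategory.Q.obj E ≅ K.1) → Cx.chi (Vect X) (rep K) = Cx.chi (Vect X) E := fun K E hE e => by
    obtain ⟨hb, ⟨e'⟩⟩ := hrep K
    exact chi_eq_of_iso hX hb hE (e' ≪≫ e.symm)
  let g : FreeAbelianGroup (Subtype (Perf X)) →+ KZero.K0sub (Vect X) :=
    FreeAbelianGroup.lift fun K => Cx.chi (Vect X) (rep K)
  have hg : KZero.relTr (Perf X) ≤ g.ker := by
    refine (AddSubgroup.closure_le _).mpr ?_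
    rintro x ⟨T, h₁, h₂, h₃, hT, rfl⟩
    obtain ⟨b₁, ⟨e₁⟩⟩ := hrep ⟨_, h₁⟩
    obtain ⟨b₂, ⟨e₂⟩⟩ := hrep ⟨_, h₂⟩
    obtain ⟨G, q, f, hG, hq, hf⟩ := exists_roof hX b₁ b₂ (e₁.hom ≫ T.mor₁ ≫ e₂.inv)
    haveI := hq
    let e₁' := asIso (DerivedCategory.Q.map q) ≪≫ e₁
    let e := isoTriangleOfIso₁₂ _ _ (DerivedCategory.mappingCone_triangle_distinguished f) hT e₁' e₂ (by
      change DerivedCategory.Q.map f ≫ e₂.hom = (DerivedCategory.Q.map q ≫ e₁.hom) ≫ T.mor₁
      rw [← hf]; simp)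
    have h3 := hind ⟨_, h₃⟩ (CochainComplex.mappingCone f) (Cx.bdd_cone adm f hG b₂) (Triangle.π₃.mapIso e)
    have h1 := hind ⟨_, h₁⟩ G hG e₁'
    simp only [SetLike.mem_coe, AddMonoidHom.mem_ker, map_sub, g, FreeAbelianGroup.lift_apply_of]
    rw [h3, h1, Cx.chi_cone adm f hG b₂]
    abel
  let ψ := QuotientAddGroup.lift _ g hg
  refine ⟨AddEquiv.ofBijective φ ⟨?_, ?_⟩, hφ⟩
  · refine Function.LeftInverse.injective (g := ψ) fun x => ?_
    obtain ⟨x, rfl⟩ := QuotientAddGroup.mk_surjective x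
    induction x using FreeAbelianGroup.induction_on with
    | zero => simp
    | of M =>
      obtain ⟨M, hM⟩ := M
      have e : (QuotientAddGroup.mk (FreeAbelianGroup.of ⟨M, hM⟩) : KZero.K0sub (Vect X)) = KZero.clSub (Vect X) M := by
        rw [KZero.clSub, dif_pos hM]
      rw [e, hφ M hM, KZero.clTr, dif_pos (hsingle M hM), QuotientAddGroup.lift_mk]
      simp only [g, FreeAbelianGroup.lift_apply_of]
      rw [hind ⟨_, hsingle M hM⟩ _ (Cx.bdd_single adm M 0 hM)
        ((DerivedCategory.singleFunctorIsoCompQ _ 0).app M).symm, Cx.chi_single adm M 0 hM,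
        Int.negOnePow_zero, one_smul]
    | neg a ha => rw [QuotientAddGroup.mk_neg, map_neg, map_neg, ha]
    | add a b ha hb => rw [QuotientAddGroup.mk_add, map_add, map_add, ha, hb]
  · intro x
    obtain ⟨x, rfl⟩ := QuotientAddGroup.mk_surjective x
    induction x using FreeAbelianGroup.induction_on with
    | zero => exact ⟨0, map_zero φ⟩
    | of K =>
      obtain ⟨K, hK⟩ := K
      obtain ⟨hb, ⟨e⟩⟩ := hrep ⟨K, hK⟩
      refine ⟨Cx.chi (Vect X) (rep ⟨K, hK⟩), ?_⟩
      rw [hχ _ hb, Tr.cl_iso closed e (perfect_Q _ hb), KZero.clTr, dif_pos hK]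
    | neg a ha => exact let ⟨y, hy⟩ := ha; ⟨-y, by rw [map_neg, hy]; rfl⟩
    | add a b ha hb => exact let ⟨y, hy⟩ := ha; let ⟨z, hz⟩ := hb; ⟨y + z, by rw [map_add, hy, hz]; rfl⟩

end Groth.Agent.H27KZero.PerfScheme
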