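import Groth.Agent.H27KZero.TrEquiv
import Groth.Agent.H27KZero.PerfectRing
import Groth.Agent.H16Derived.KFlat.PerfTilde
import Groth.Agent.H16Derived.QCohD.Equiv
import Groth.Agent.H16Derived.Dual.PerfQCoh
import Groth.Agent.H10Coh.TildeExact
import Groth.Agent.H27KZero.PerfectSupp
import Mathlib

/-!
# `K₀` of perfect complexes on an affine scheme
-/

set_option autoImplicit false
set_option linter.style.haveILetI false

universe u

open CategoryTheory CategoryTheory.Limits CategoryTheory.Pretriangulated AlgebraicGeometry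

attribute [local instance] HasDerivedCategory.standard

namespace Groth.Agent.H27KZero

open H16Derived.KFlat.Stalk

theorem closed_perfect (X : Scheme.{u}) : Tr.Closed (fun K : DCoh.D X => DCoh.IsPerfect K) where
  zero Z hZ := by
    obtain ⟨O, hO⟩ := HasZeroObject.zero (C := CochainComplex X.Modules ℤ)
    have hX : ∀ i, IsZero (O.X i) := fun i => (HomologicalComplex.eval _ _ i).map_isZero hO
    exact isPerfect_of_iso' ((DerivedCategory.Q.map_isZero hO).iso hZ)
      (isPerfect_toD ⟨⟨0, 0, fun i _ => hX i⟩, fun i => isFinLocFree_of_isZero (hX i)⟩)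
  iso e h := isPerfect_of_iso' e h
  shift K n h := isPerfect_shift h n

theorem exists_equiv_spec (A : Type u) [CommRing A] :
    ∃ φ : KZero.K0sub (PerfRing.FinProj A) ≃+
        KZero.K0tr (fun K : DCoh.D (Spec (CommRingCat.of A)) => DCoh.IsPerfect K),
      ∀ M : ModuleCat.{u} A, PerfRing.FinProj A M →
        φ (KZero.clSub (PerfRing.FinProj A) M) =
          KZero.clTr (fun K : DCoh.D (Spec (CommRingCat.of A)) => DCoh.IsPerfect K)
            (DCoh.inD (Spec (CommRingCat.of A)) (tilde M)) := by
  haveI : PreservesFiniteLimits (tilde.functor (CommRingCat.of A)) := inferInstance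
  obtain ⟨hfull, hfaith⟩ := H16Derived.QCohD.full_faithful (CommRingCat.of A)
  haveI := hfull
  haveI := hfaith
  obtain ⟨φ₁, h₁, -⟩ := PerfRing.exists_equiv (R := A)
  obtain ⟨φ₂, h₂⟩ := Tr.exists_equiv_of_functor (P := PerfRing.Perf A)
    (P' := fun K : DCoh.D (Spec (CommRingCat.of A)) => DCoh.IsPerfect K)
    (DCoh.tildeD (CommRingCat.of A)) PerfRing.closed (closed_perfect _) perfect_tilde_iff
    (fun L hL => H16Derived.QCohD.exists_tildeD_iso (CommRingCat.of A) (H16Derived.Dual.isQCohD_of_isPerfect hL))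
  refine ⟨φ₁.trans φ₂, fun M hM => ?_⟩
  have hs : PerfRing.Perf A ((DerivedCategory.singleFunctor _ 0).obj M) :=
    PerfRing.perfect_Q _ (Cx.bdd_single PerfRing.adm M 0 hM)
  rw [AddEquiv.trans_apply, h₁ M hM, h₂ _ hs]
  exact Tr.cl_iso (closed_perfect _)
    (((tilde.functor (CommRingCat.of A)).mapDerivedCategorySingleFunctor 0).app M) ((perfect_tilde_iff _).mpr hs)

end Groth.Agent.H27KZero
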