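/-
The linear step of the resolution of a regular module on projective space, with minimal free cover.
-/
import Groth.Agent.H22Alg.CMStep
import Groth.Agent.H10Coh.Pn.Results

set_option autoImplicit false
set_option linter.style.haveILetI false
set_option maxHeartbeats 400000
universe u

open CategoryTheory CategoryTheory.Limits AlgebraicGeometry Opposite TopologicalSpace
open Groth.Agent Groth.Agent.H11Tilde Groth.Agent.H11Ample
open Groth.Agent.H22Alg Groth.Agent.H22Alg.CMField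
attribute [local instance 10000] Groth.Agent.H10Coh.hasSheafifyAb Groth.Agent.H10Coh.hasWeakSheafifyAb Groth.Agent.H10Coh.hasExtAb Groth.Agent.H10Coh.enoughInjAb

noncomputable section

namespace Groth.Agent.H27KZero.PnStep

variable (k : Type u) [Field k] (n : ℕ)

/-- The twists on projective space. -/
abbrev Od (a : ℤ) : (CohB1.ProjSpace n k).Modules := Twist.twistProjSpace n k a

theorem globA_surjective : letI : (CohB1.ProjSpace n k).Over (Spec (CommRingCat.of k)) := ⟨CohB1.ProjSpace.toSpec n k⟩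
    Function.Surjective (H10Coh.globA (A := k) (X := CohB1.ProjSpace n k)) := by
  haveI : IsIso (CohB1.ProjSpace.toSpec n k).appTop := H10Coh.Pn.isIso_toS_appTop n k
  intro c
  obtain ⟨a, ha⟩ := (ConcreteCategory.bijective_of_isIso
    ((Scheme.ΓSpecIso (CommRingCat.of k)).inv ≫ (CohB1.ProjSpace.toSpec n k).appTop)).2 c
  exact ⟨a, ha⟩

theorem van_zero_iff {X : Scheme.{u}} (M : X.Modules) : Van 0 M ↔ ∀ t : Γ(M, ⊤), t = 0 := by
  let e := H10Coh.H0Equiv (H10Coh.sh M) (⊤ : X.Opens)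
  constructor
  · intro h t
    obtain ⟨x, rfl⟩ := e.surjective t
    haveI : Subsingleton (H10Coh.Hn (H10Coh.sh M) 0 ⊤) := h
    exact (congrArg e (Subsingleton.elim x 0)).trans (map_zero e)
  · exact fun h => ⟨fun a b => e.injective ((h (e a)).trans (h (e b)).symm)⟩

variable {k n}

/-- The step `O(-m)ᵇ → F` with kernel regular and without global sections after twisting. -/
theorem exists_step {F : (CohB1.ProjSpace n k).Modules} (hF : Coh.IsCoh F) {m : ℤ} (h : Reg (Od k n) F m) :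
    ∃ (b : ℕ) (φ : (∐ fun _ : Fin b => Od k n (-m)) ⟶ F),
      Epi φ ∧ Reg (Od k n) (kernel φ) (m + 1) ∧ Van 0 (CohB1.tensorMod (kernel φ) (Od k n m)) ∧
        (Van 0 (CohB1.tensorMod F (Od k n m)) → b = 0) := by
  classical
  have hs := setup k n
  letI : (CohB1.ProjSpace n k).Over (Spec (CommRingCat.of k)) := ⟨CohB1.ProjSpace.toSpec n k⟩
  haveI : IsProper ((CohB1.ProjSpace n k) ↘ Spec (CommRingCat.of k)) :=
    inferInstanceAs (IsProper (CohB1.ProjSpace.toSpec n k))
  haveI : CompactSpace (CohB1.ProjSpace n k) := compactSpace_projSpace n k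
  haveI := H28Int.isNoetherian k (X := CohB1.ProjSpace n k)
  haveI : QuasiSeparatedSpace (CohB1.ProjSpace n k) :=
    quasiSeparatedSpace_of_quasiSeparated ((CohB1.ProjSpace n k) ↘ Spec (CommRingCat.of k))
  let G := CohB1.tensorMod F (Od k n m)
  have hG : Coh.IsCoh G := H11Ample.isCoh_tensor hF (hs.fam.inv m)
  haveI : Module.Finite k (Coh.HH (CohB1.ProjSpace n k) G 0) := H10Coh.finite_HH_proper k _ G hG 0
  let b := Module.finrank k (Coh.HH (CohB1.ProjSpace n k) G 0)
  let bas := Module.finBasis k (Coh.HH (CohB1.ProjSpace n k) G 0)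
  let g : Fin b → Γ(G, ⊤) := fun i => H29RR.sec G (bas i)
  let OO : Fin b → (CohB1.ProjSpace n k).Modules := fun _ => Coh.structureModule (CohB1.ProjSpace n k)
  let ψ : (∐ OO) ⟶ G := Sigma.desc fun i => homOfGlobal G (g i)
  have hι : ∀ (i : Fin b) (r : Γ(CohB1.ProjSpace n k, ⊤)), ψ.app ⊤ ((Sigma.ι OO i).app ⊤ r) = r • g i := by
    intro i r
    have h1 : Sigma.ι OO i ≫ ψ = homOfGlobal G (g i) := Sigma.ι_desc _ _
    refine (congr($(congrArg (fun m => Scheme.Modules.Hom.app m ⊤) h1) r)).trans ?_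
    rw [homOfGlobal_app]
    exact congrArg (r • ·) (H10Coh.mres_self _ _ _)
  have hsur : Function.Surjective (ψ.app ⊤) := by
    intro t
    obtain ⟨v, rfl⟩ := (H29RR.sec G).surjective t
    rw [← bas.sum_repr v, map_sum]
    refine ⟨∑ i, (Sigma.ι OO i).app ⊤ (H10Coh.globA (A := k) (bas.repr v i)), ?_⟩
    rw [map_sum]
    exact Finset.sum_congr rfl fun i _ => (hι i _).trans (H29RR.sec_smul G _ _).symm
  have hinj : ∀ t : Γ(∐ OO, ⊤), ψ.app ⊤ t = 0 → t = 0 := by
    intro t ht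
    let q : ∀ i, ∐ OO ⟶ OO i := fun i => (biproduct.isoCoproduct OO).inv ≫ biproduct.π OO i
    have hι' : ∀ i, Sigma.ι OO i = biproduct.ι OO i ≫ (biproduct.isoCoproduct OO).hom := fun i => by
      rw [biproduct.isoCoproduct_hom, biproduct.ι_desc]
    have hid : ∑ i, q i ≫ Sigma.ι OO i = 𝟙 (∐ OO) := by
      simp only [q, hι', Category.assoc]
      simp only [← Category.assoc (biproduct.π OO _)]
      rw [← Preadditive.comp_sum, ← Preadditive.sum_comp, biproduct.total, Category.id_comp, Iso.inv_hom_id]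
    choose r hr using fun i => globA_surjective k n (show Γ(CohB1.ProjSpace n k, ⊤) from (q i).app ⊤ t)
    let ev : (∐ OO ⟶ ∐ OO) →+ Γ(∐ OO, ⊤) :=
      AddMonoidHom.mk' (fun f => f.app ⊤ t) fun f f' => by simp only [Scheme.Modules.Hom.add_app]; rfl
    have ht' : t = ∑ i, (Sigma.ι OO i).app ⊤ (H10Coh.globA (A := k) (r i)) := by
      calc t = ev (𝟙 _) := rfl
        _ = ∑ i, ev (q i ≫ Sigma.ι OO i) := by rw [← map_sum, hid]
        _ = _ := Finset.sum_congr rfl fun i _ => congrArg ((Sigma.ι OO i).app ⊤) (hr i).symm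
    have hz : H29RR.sec G (∑ i, r i • bas i) = 0 := by
      rw [map_sum, ← ht, ht', map_sum]
      exact Finset.sum_congr rfl fun i _ => (H29RR.sec_smul G _ _).trans (hι i _).symm
    have hr0 : ∀ i, r i = 0 :=
      Fintype.linearIndependent_iff.1 bas.linearIndependent r ((H29RR.sec G).map_eq_zero_iff.1 hz)
    rw [ht']
    refine Finset.sum_eq_zero fun i _ => ?_
    rw [hr0 i, map_zero]
    exact map_zero ((Sigma.ι OO i).app ⊤).hom
  haveI hψ : Epi ψ := by
    obtain ⟨ι, p, hp⟩ := isGloballyGenerated hs (isAmple_twistProjSpace n k) hF h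
    haveI : @Epi (CohB1.ProjSpace n k).Modules _ _ _ p := hp
    choose σ hσ using fun j : ι => hsur (SecTwist.val (H10Coh.freeIncl ι j ≫ p) ⊤)
    obtain ⟨a, ha⟩ := H10Coh.exists_free_desc (X := CohB1.ProjSpace n k) (N := ∐ OO)
      fun j => homOfGlobal _ (σ j)
    have hap : a ≫ ψ = p := by
      refine Cofan.IsColimit.hom_ext (SheafOfModules.isColimitFreeCofan
        (R := (CohB1.ProjSpace n k).ringCatSheaf) ι) _ _ fun j => ?_
      show H10Coh.freeIncl ι j ≫ a ≫ ψ = H10Coh.freeIncl ι j ≫ p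
      rw [← Category.assoc, ha]
      refine Scheme.Modules.hom_ext _ _ fun W => ?_
      ext r
      show ψ.app W ((homOfGlobal _ (σ j)).app W r) = (H10Coh.freeIncl ι j ≫ p).app W r
      rw [homOfGlobal_app, Scheme.Modules.Hom.app_smul, app_map_apply, hσ]
      exact (H06Mod.app_unit (H10Coh.freeIncl ι j ≫ p) W r).symm
    haveI : Epi (a ≫ ψ) := hap ▸ ‹Epi p›
    exact epi_of_epi a ψ
  let L := Od k n (-m)
  have hL : PicF.IsInvertible L := hs.fam.inv (-m)
  let B := (DCoh.tensorBi (X := CohB1.ProjSpace n k)).flip.obj L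
  obtain ⟨u⟩ := hs.fam.add m (-m)
  obtain ⟨z⟩ := hs.fam.zero
  let ρ : CohB1.tensorMod G L ≅ F := H10Coh.Tw.assoc F _ _ ≪≫
    PicGrp.tensorModIso (Iso.refl F) (u ≪≫ eqToIso (congrArg (Od k n) (add_neg_cancel m)) ≪≫ z) ≪≫
    H10Coh.Tw.rightUnitIso F
  haveI : PreservesColimitsOfShape (Discrete (Fin b)) B := inferInstance
  let c : (∐ fun _ : Fin b => L) ≅ CohB1.tensorMod (∐ OO) L :=
    Sigma.mapIso (fun _ : Fin b => (H10Coh.Tw.leftUnitIso L).symm) ≪≫
      (PreservesCoproduct.iso B OO).symm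
  let φ : (∐ fun _ : Fin b => L) ⟶ F := c.hom ≫ LimSh.tensorModMap ψ L ≫ ρ.hom
  haveI : Epi (LimSh.tensorModMap ψ L) := H10Coh.Tw.epi_map ψ hL
  haveI : Epi (LimSh.tensorModMap ψ L ≫ ρ.hom) := epi_comp _ _
  haveI : Epi φ := epi_comp _ _
  have hS : (ShortComplex.mk (kernel.ι ψ) ψ (kernel.condition ψ)).ShortExact :=
    { exact := ShortComplex.exact_kernel _ }
  have hT := H10Coh.Tw.shortExact_seq hS hL
  let e : kernel φ ≅ CohB1.tensorMod (kernel ψ) L :=
    kernelIsIsoComp c.hom (LimSh.tensorModMap ψ L ≫ ρ.hom) ≪≫ kernelCompMono (LimSh.tensorModMap ψ L) ρ.hom ≪≫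
      (kernelIsKernel (LimSh.tensorModMap ψ L)).conePointUniqueUpToIso hT.fIsKernel
  refine ⟨b, φ, inferInstance, ?_, ?_, fun h0 => ?_⟩
  rotate_left
  · -- no sections in the kernel
    obtain ⟨u'⟩ := hs.fam.add (-m) m
    refine H10Coh.Tw.subsingleton_of_iso (PicGrp.tensorModIso e (Iso.refl _) ≪≫ H10Coh.Tw.assoc _ _ _ ≪≫
      PicGrp.tensorModIso (Iso.refl _) (u' ≪≫ eqToIso (congrArg (Od k n) (neg_add_cancel m)) ≪≫ z) ≪≫
      H10Coh.Tw.rightUnitIso _).symm ((van_zero_iff _).2 fun t => ?_)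
    have h1 : (kernel.ι ψ).app ⊤ t = 0 := hinj _ (by
      have := congr($(congrArg (fun m => Scheme.Modules.Hom.app m ⊤) (kernel.condition ψ)) t)
      exact this)
    exact H10Coh.injective_app_of_mono' (kernel.ι ψ) ⊤ (h1.trans (map_zero ((kernel.ι ψ).app ⊤).hom).symm)
  · haveI := van_iff.1 h0
    exact Module.finrank_zero_of_subsingleton
  intro i hi
  obtain ⟨a⟩ := hs.fam.add (-m) (m + 1 - i)
  let v : CohB1.tensorMod L (Od k n (m + 1 - i)) ≅ Od k n (1 - i) :=
    a ≪≫ eqToIso (congrArg (Od k n) (by ring))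
  refine H10Coh.Tw.subsingleton_of_iso
    (PicGrp.tensorModIso e (Iso.refl _) ≪≫ H10Coh.Tw.assoc _ _ _ ≪≫ PicGrp.tensorModIso (Iso.refl _) v).symm ?_
  have hU := H10Coh.Tw.shortExact_seq hS (hs.fam.inv (1 - (i : ℤ)))
  obtain ⟨q, rfl⟩ : ∃ q, i = q + 1 := ⟨i - 1, by omega⟩
  have h2 : Van (q + 1) (CohB1.tensorMod (∐ OO) (Od k n (1 - ((q + 1 : ℕ) : ℤ)))) := by
    by_cases hn : q + 1 ≤ n
    · exact CMStep.van_free k n b (by omega) (by push_cast; omega) (Iso.refl _)
    · refine van_high k n (by omega) ?_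
      exact (H11Ample.isCoh_tensor (H10Coh.isCoh_sigma OO
        fun _ => H10Coh.isCoh_structureModule' (CohB1.ProjSpace n k)) (hs.fam.inv _)).1
  rcases Nat.eq_zero_or_pos q with rfl | hq
  · refine CMStep.van_left_one hU h2 ?_
    obtain ⟨w⟩ : Nonempty (Od k n (1 - ((0 + 1 : ℕ) : ℤ)) ≅ Coh.structureModule (CohB1.ProjSpace n k)) :=
      ⟨eqToIso (congrArg (Od k n) (by simp)) ≪≫ z⟩
    intro t
    have hmem := ((spanned_structure G).of_iso_right w.symm) t
    induction hmem using AddSubgroup.closure_induction with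
    | mem y hy =>
      obtain ⟨p, r, rfl⟩ := hy
      obtain ⟨p', rfl⟩ := hsur p
      exact ⟨tm p' r, H10Coh.Tw.map_tm ψ _ p' r⟩
    | zero => exact ⟨0, map_zero _⟩
    | add y y' _ _ hy hy' =>
      obtain ⟨a₁, rfl⟩ := hy
      obtain ⟨a₂, rfl⟩ := hy'
      exact ⟨a₁ + a₂, map_add _ _ _⟩
    | neg y _ hy =>
      obtain ⟨a₁, rfl⟩ := hy
      exact ⟨-a₁, map_neg _ _⟩
  · refine CMStep.van_left (H10Coh.shortExact_sh hU) h2 ?_
    obtain ⟨a'⟩ := hs.fam.add m (1 - ((q + 1 : ℕ) : ℤ))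
    exact H10Coh.Tw.subsingleton_of_iso (H10Coh.Tw.assoc F _ _ ≪≫ PicGrp.tensorModIso (Iso.refl F)
      (a' ≪≫ eqToIso (congrArg (Od k n) (by push_cast; ring)))).symm (h q hq)

end Groth.Agent.H27KZero.PnStep
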