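/-
The linear resolution of a regular coherent module on projective space, of length `n + 1`.
-/
import Groth.Agent.H27KZero.PnStep
import Groth.Agent.H22Alg.CMHyper
import Groth.Agent.H22Alg.SyzResolution

set_option autoImplicit false
set_option linter.style.haveILetI false
set_option maxHeartbeats 400000
universe u

open CategoryTheory CategoryTheory.Limits AlgebraicGeometry Opposite TopologicalSpace
open Groth.Agent Groth.Agent.H11Tilde Groth.Agent.H11Ample
open Groth.Agent.H22Alg Groth.Agent.H22Alg.CMField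
attribute [local instance 10000] Groth.Agent.H10Coh.hasSheafifyAb Groth.Agent.H10Coh.hasWeakSheafifyAb Groth.Agent.H10Coh.hasExtAb Groth.Agent.H10Coh.enoughInjAb

noncomputable section

namespace Groth.Agent.H27KZero.PnRes

open PnStep (Od)

variable {k : Type u} [Field k] {n : ℕ}

/-- The condition on the `j`-th syzygy of an `m`-regular module. -/
structure Good (m : ℤ) (j : ℕ) (K : (CohB1.ProjSpace n k).Modules) : Prop where
  coh : Coh.IsCoh K
  reg : Reg (Od k n) K (m + j)
  van : ∀ a : ℕ, 1 ≤ a → a ≤ j → a ≤ n + 1 → ∀ q, Van q (CohB1.tensorMod K (Od k n (m + j - a)))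

theorem isZero_fin_zero (G : Fin 0 → (CohB1.ProjSpace n k).Modules) : IsZero (∐ G) := by
  rw [IsZero.iff_id_eq_zero]
  exact Sigma.hom_ext _ _ fun b => b.elim0

theorem van_of_isZero {K : (CohB1.ProjSpace n k).Modules} (h : IsZero K) (L : (CohB1.ProjSpace n k).Modules)
    (q : ℕ) : Van q (CohB1.tensorMod K L) := by
  have hz : IsZero (CohB1.tensorMod K L) :=
    ((DCoh.tensorBi (X := CohB1.ProjSpace n k)).flip.obj L).map_isZero h
  exact H10Coh.Tw.subsingleton_of_iso (hz.iso (isZero_zero _)).symm van_zero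

theorem isCoh_sum (b : ℕ) (d : ℤ) : Coh.IsCoh (∐ fun _ : Fin b => Od k n d) := by
  haveI := CMHyper.noetherian (k := k) (n := n)
  exact H10Coh.isCoh_sigma _ fun _ => H11Ample.isCoh_of_isInvertible ((setup k n).fam.inv d)

theorem Good.isZero {m : ℤ} {j : ℕ} {K : (CohB1.ProjSpace n k).Modules} (h : Good m j K) (hj : n + 1 ≤ j) :
    IsZero K := by
  have hreg : Reg (Od k n) K (m + j - 1) := fun i hi => by
    by_cases hn : i ≤ n
    · have := h.van (i + 1) (by omega) (by omega) (by omega) i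
      rwa [show m + (j : ℤ) - ((i + 1 : ℕ) : ℤ) = m + j - 1 - i by push_cast; ring] at this
    · exact van_high k n (by omega) (H11Ample.isCoh_tensor h.coh ((setup k n).fam.inv _)).1
  obtain ⟨b, φ, hφ, -, -, hb⟩ := PnStep.exists_step h.coh hreg
  haveI := hφ
  have hv := h.van 1 le_rfl (by omega) (by omega) 0
  rw [Nat.cast_one] at hv
  obtain rfl := hb hv
  exact IsZero.of_epi φ (isZero_fin_zero _)

theorem Good.step {m : ℤ} {j : ℕ} {K : (CohB1.ProjSpace n k).Modules} (h : Good m j K) :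
    ∃ (b : ℕ) (φ : (∐ fun _ : Fin b => Od k n (-(m + j))) ⟶ K),
      Epi φ ∧ Good m (j + 1) (kernel φ) ∧ (n + 1 ≤ j → b = 0) := by
  have hs := setup k n
  haveI := CMHyper.noetherian (k := k) (n := n)
  obtain ⟨b, φ, hφ, hreg, h0, hb⟩ := PnStep.exists_step h.coh h.reg
  haveI := hφ
  refine ⟨b, φ, hφ, ⟨H10Coh.isCoh_kernel φ (isCoh_sum b _) h.coh.1, ?_, ?_⟩,
    fun hj => hb (van_of_isZero (h.isZero hj) _ 0)⟩
  · rwa [show m + ((j + 1 : ℕ) : ℤ) = m + j + 1 by push_cast; ring]
  intro a ha haj han q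
  obtain ⟨c, rfl⟩ : ∃ c, a = c + 1 := ⟨a - 1, by omega⟩
  rw [show m + ((j + 1 : ℕ) : ℤ) - ((c + 1 : ℕ) : ℤ) = m + j - c by push_cast; ring]
  rcases Nat.eq_zero_or_pos c with rfl | hc
  · rw [Nat.cast_zero, sub_zero]
    rcases Nat.eq_zero_or_pos q with rfl | hq
    · exact h0
    · have := reg_add hs hreg (q - 1) q hq
      rwa [show m + (j : ℤ) + 1 + ((q - 1 : ℕ) : ℤ) - q = m + j by omega] at this
  · have hS : (ShortComplex.mk (kernel.ι φ) φ (kernel.condition φ)).ShortExact :=
      { exact := ShortComplex.exact_kernel _ }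
    have hU := H10Coh.Tw.shortExact_seq hS (hs.fam.inv (m + j - (c : ℤ)))
    obtain ⟨u⟩ := hs.fam.add (-(m + j)) (m + j - c)
    have hmid : ∀ q, Van q (CohB1.tensorMod (∐ fun _ : Fin b => Od k n (-(m + j))) (Od k n (m + j - c))) := fun q => by
      refine H10Coh.Tw.subsingleton_sigma_tensor _ (hs.fam.inv _) fun _ =>
        H10Coh.Tw.subsingleton_of_iso (u ≪≫ eqToIso (congrArg (Od k n)
          (show -(m + j) + (m + j - c) = -(c : ℤ) by ring))).symm ?_
      exact van_iff.2 (H10Coh.Pn.subsingleton_HH_Od (R := k) q (by omega) (by omega))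
    cases q with
    | zero =>
      rw [PnStep.van_zero_iff]
      intro t
      haveI := hU.mono_f
      have hm := (PnStep.van_zero_iff _).1 (hmid 0)
      exact H10Coh.injective_app_of_mono' (H10Coh.Tw.seq (ShortComplex.mk (kernel.ι φ) φ (kernel.condition φ))
        (hs.fam.inv (m + j - (c : ℤ)))).f ⊤ ((hm _).trans (hm _).symm)
    | succ q =>
      exact CMStep.van_left (H10Coh.shortExact_sh hU) (hmid (q + 1)) (h.van c hc (by omega) (by omega) q)

/-- The linear resolution of a regular module. -/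
theorem exists_resolution {F : (CohB1.ProjSpace n k).Modules} (hF : Coh.IsCoh F) {m : ℤ} (h : Reg (Od k n) F m) :
    ∃ (Z : ℕ → (CohB1.ProjSpace n k).Modules) (b : ℕ → ℕ)
      (π : ∀ j, (∐ fun _ : Fin (b j) => Od k n (-(m + j))) ⟶ Z j)
      (ι : ∀ j, Z (j + 1) ⟶ ∐ fun _ : Fin (b j) => Od k n (-(m + j))) (w : ∀ j, ι j ≫ π j = 0),
      (∀ j, (ShortComplex.mk (ι j) (π j) (w j)).ShortExact) ∧ Z 0 = F ∧
        (∀ j, Coh.IsCoh (Z j)) ∧ (∀ j, n + 1 ≤ j → IsZero (Z j)) ∧ ∀ j, n + 1 ≤ j → b j = 0 := by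
  classical
  let S := fun j => {K : (CohB1.ProjSpace n k).Modules // Good m j K}
  choose b φ hφ hg hb using fun (j : ℕ) (K : S j) => K.2.step
  let seq : ∀ j, S j := fun j => Nat.rec (motive := S)
    ⟨F, hF, by simpa using h, fun a h1 h2 => absurd (le_trans h1 h2) (Nat.not_succ_le_zero 0)⟩ (fun j K => ⟨kernel (φ j K), hg j K⟩) j
  refine ⟨fun j => (seq j).1, fun j => b j (seq j), fun j => φ j (seq j), fun j => kernel.ι (φ j (seq j)),
    fun j => kernel.condition _, fun j => ?_, rfl, fun j => (seq j).2.coh, fun j hj => (seq j).2.isZero hj,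
    fun j hj => hb j (seq j) hj⟩
  haveI := hφ j (seq j)
  exact { exact := ShortComplex.exact_kernel _ }

/-- Coherent modules are regular in large degrees. -/
theorem exists_reg {F : (CohB1.ProjSpace n k).Modules} (hF : Coh.IsCoh F) : ∃ m : ℤ, Reg (Od k n) F m := by
  obtain ⟨N, hN⟩ := CMHyper.exists_van hF
  refine ⟨N + n, fun i hi => ?_⟩
  by_cases hn : i ≤ n
  · exact hN _ (by omega) i hi
  · exact van_high k n (by omega) (H11Ample.isCoh_tensor hF ((setup k n).fam.inv _)).1

end Groth.Agent.H27KZero.PnRes
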