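/-
The Grothendieck group of coherent modules on projective space is free on `O, O(-1), …, O(-n)`.
-/
import Groth.Agent.H27KZero.PnRes
import Groth.Agent.H27KZero.Devissage
import Groth.Agent.H22Alg.MumfordHilb
import Groth.Agent.H22Alg.KLFK0

set_option autoImplicit false
set_option linter.style.haveILetI false
set_option maxHeartbeats 400000
universe u v

open CategoryTheory CategoryTheory.Limits AlgebraicGeometry Opposite TopologicalSpace
open Groth.Agent Groth.Agent.H11Tilde Groth.Agent.H11Ample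
open Groth.Agent.H22Alg Groth.Agent.H22Alg.CMField
attribute [local instance 10000] Groth.Agent.H10Coh.hasSheafifyAb Groth.Agent.H10Coh.hasWeakSheafifyAb Groth.Agent.H10Coh.hasExtAb Groth.Agent.H10Coh.enoughInjAb

noncomputable section

namespace Groth.Agent.H27KZero.PnK0

open PnStep (Od)

/-- The class of a finite sum of copies of an object. -/
theorem clSub_sum {A : Type u} [Category.{v} A] [Abelian A] {P : ObjectProperty A} (L : A)
    [∀ b : ℕ, HasCoproduct fun _ : Fin b => L]
    (hP : ∀ b : ℕ, P (∐ fun _ : Fin b => L)) (hL : P L) (b : ℕ) :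
    KZero.clSub P (∐ fun _ : Fin b => L) = b • KZero.clSub P L := by
  induction b with
  | zero =>
    rw [zero_smul]
    refine clSub_zero ?_ (hP 0)
    rw [IsZero.iff_id_eq_zero]
    exact Sigma.hom_ext _ _ fun b => b.elim0
  | succ b ih =>
    let G := fun c : ℕ => fun _ : Fin c => L
    let f : ∐ G b ⟶ ∐ G (b + 1) := Sigma.desc fun i : Fin b => Sigma.ι (G (b + 1)) i.castSucc
    let g : ∐ G (b + 1) ⟶ L := Sigma.desc (Fin.lastCases (motive := fun _ => L ⟶ L) (𝟙 L) fun _ => 0)
    have hfg : f ≫ g = 0 := Sigma.hom_ext _ _ fun i => by simp [f, g, G]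
    let sp : (ShortComplex.mk f g hfg).Splitting :=
      { r := Sigma.desc (Fin.lastCases (motive := fun _ => L ⟶ ∐ G b) 0 fun i => Sigma.ι (G b) i)
        s := Sigma.ι (G (b + 1)) (Fin.last b)
        f_r := Sigma.hom_ext _ _ fun i => by simp [f, G]
        s_g := by simp [g, G]
        id := Sigma.hom_ext _ _ fun i => by
          induction i using Fin.lastCases with
          | last => simp [f, g, G]
          | cast i => simp [f, g, G] }
    rw [succ_nsmul, ← ih]
    exact clSub_shortExact sp.shortExact (hP b) (hP (b + 1)) hL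

variable (k : Type u) [Field k] (n : ℕ)

/-- The classes of coherent modules. -/
abbrev cls (M : (CohB1.ProjSpace n k).Modules) :
    KZero.K0sub (fun M : (CohB1.ProjSpace n k).Modules => Coh.IsCoh M) :=
  KZero.clSub (fun M : (CohB1.ProjSpace n k).Modules => Coh.IsCoh M) M

/-- The Euler characteristics of the twists. -/
def E (t : ℤ) : ℤ := Curv2.euler k (CohB1.ProjSpace n k) (Od k n t)

variable {k n}

theorem isCoh_Od (a : ℤ) : Coh.IsCoh (Od k n a) := by
  haveI := CMHyper.noetherian (k := k) (n := n)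
  exact H11Ample.isCoh_of_isInvertible ((setup k n).fam.inv a)

theorem van_Od (a : ℤ) (q : ℕ) (h₀ : ¬ (q = 0 ∧ 0 ≤ a)) (hn : ¬ (q = n ∧ a ≤ -((n : ℤ) + 1))) :
    Van q (Od k n a) :=
  van_iff.2 (H10Coh.Pn.subsingleton_HH_Od (R := k) q h₀ hn)

theorem E_eq_zero (s : ℕ) (h₁ : 1 ≤ s) (h₂ : s ≤ n) : E k n (-(s : ℤ)) = 0 := by
  haveI := MumfordBound.proper_toSpec (k := k) (n := n)
  rw [E, H25Euler.euler_eq_sum _ 0 fun q _ => van_iff.1 (van_Od _ q (by omega) (by omega))]
  simp

theorem E_zero_pos : 0 < E k n 0 := by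
  haveI := MumfordBound.proper_toSpec (k := k) (n := n)
  haveI : CompactSpace (CohB1.ProjSpace n k) := compactSpace_projSpace n k
  haveI := H28Int.isNoetherian k (X := CohB1.ProjSpace n k)
  rw [E, H25Euler.euler_eq_sum _ 1 fun q hq => van_iff.1 (van_Od _ q (by omega) (by omega))]
  obtain ⟨z⟩ := (setup k n).fam.zero
  haveI : Module.Finite k (Coh.HH (CohB1.ProjSpace n k) (Od k n 0) 0) :=
    H10Coh.finite_HH_proper k _ _ (isCoh_Od 0) 0
  have : Nontrivial (Coh.HH (CohB1.ProjSpace n k) (Od k n 0) 0) := by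
    rw [← not_subsingleton_iff_nontrivial]
    intro h
    have h' := (PnStep.van_zero_iff _).1
      (H10Coh.Tw.subsingleton_of_iso z (van_iff.2 h) : Van 0 (Coh.structureModule (CohB1.ProjSpace n k)))
    haveI : IsIso (CohB1.ProjSpace.toSpec n k).appTop := H10Coh.Pn.isIso_toS_appTop n k
    haveI : Nontrivial Γ(CohB1.ProjSpace n k, ⊤) := (ConcreteCategory.bijective_of_isIso
      ((Scheme.ΓSpecIso (CommRingCat.of k)).inv ≫ (CohB1.ProjSpace.toSpec n k).appTop)).1.nontrivial
    exact one_ne_zero (show (1 : Γ(CohB1.ProjSpace n k, ⊤)) = 0 from h' _)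
  simp only [Finset.range_one, Finset.sum_singleton, pow_zero, one_mul]
  exact_mod_cast Module.finrank_pos

theorem E_bot : E k n (-((n : ℤ) + 1)) = (-1) ^ n * E k n 0 := by
  haveI := MumfordBound.proper_toSpec (k := k) (n := n)
  rcases Nat.eq_zero_or_pos n with rfl | hn
  · obtain ⟨Q, hQ, hf⟩ := MumfordHilb.exists_poly (k := k) (isCoh_Od (k := k) (n := 0) 0)
    obtain ⟨c, rfl⟩ : ∃ c, Q = Polynomial.C c := ⟨_, Polynomial.eq_C_of_natDegree_le_zero hQ⟩
    have h : ∀ r : ℤ, (E k 0 r : ℚ) = c := fun r => by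
      obtain ⟨u⟩ := (setup k 0).fam.add 0 r
      rw [E, ← H25Euler.euler_congr (u ≪≫ eqToIso (congrArg (Od k 0) (zero_add r))), hf, Polynomial.eval_C]
    rw [pow_zero, one_mul]
    exact_mod_cast (h _).trans (h 0).symm
  · have h : ∀ t : ℤ, E k n t = Ring.choose (t + n) n := fun t =>
      (MumfordField.euler_eq_eulerCharLE (isCoh_Od t).1).trans (S4466.result k n hn t)
    rw [h, h, zero_add, show -((n : ℤ) + 1) + n = -1 by ring, Ring.choose_natCast, Nat.choose_self, Nat.cast_one,
      mul_one, Ring.choose_neg]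
    simp [Ring.choose_natCast, Units.smul_def, Int.negOnePow_def]

/-- The Euler characteristic of a twist, as a homomorphism. -/
theorem exists_hom (t : ℤ) : ∃ f : KZero.K0sub (fun M : (CohB1.ProjSpace n k).Modules => Coh.IsCoh M) →+ ℤ,
    ∀ a : ℤ, f (cls k n (Od k n a)) = E k n (a + t) := by
  haveI := MumfordBound.proper_toSpec (k := k) (n := n)
  haveI := CMHyper.noetherian (k := k) (n := n)
  have hs := setup k n
  obtain ⟨f, hf⟩ := KLFK0.exists_lift' (P := fun M : (CohB1.ProjSpace n k).Modules => Coh.IsCoh M)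
    (fun M => Curv2.euler k (CohB1.ProjSpace n k) (CohB1.tensorMod M (Od k n t))) fun S hS h₁ h₂ h₃ => by
      have hL : PicF.IsInvertible (Od k n t) := hs.fam.inv t
      have c₁ : Coh.IsCoh (H10Coh.Tw.seq S hL).X₁ := H11Ample.isCoh_tensor (F := S.X₁) h₁ hL
      have c₂ : Coh.IsCoh (H10Coh.Tw.seq S hL).X₂ := H11Ample.isCoh_tensor (F := S.X₂) h₂ hL
      have c₃ : Coh.IsCoh (H10Coh.Tw.seq S hL).X₃ := H11Ample.isCoh_tensor (F := S.X₃) h₃ hL
      have key := H25Euler.euler_add (k := k) (X := CohB1.ProjSpace n k) (H10Coh.Tw.shortExact_seq hS hL) c₁ c₂ c₃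
      exact key
  refine ⟨f, fun a => (hf _ (isCoh_Od a)).trans ?_⟩
  obtain ⟨u⟩ := hs.fam.add a t
  exact H25Euler.euler_congr u

/-- The class of a regular module. -/
theorem cls_regular {F : (CohB1.ProjSpace n k).Modules} (hF : Coh.IsCoh F) {m : ℤ} (h : Reg (Od k n) F m) :
    ∃ b : ℕ → ℕ, cls k n F = ∑ j ∈ Finset.range (n + 1), ((-1) ^ j * (b j : ℤ)) • cls k n (Od k n (-(m + j))) := by
  obtain ⟨Z, b, π, ι, w, hS, rfl, hc, hz, -⟩ := PnRes.exists_resolution hF h
  refine ⟨b, ?_⟩
  have key : ∀ N : ℕ, cls k n (Z 0) =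
      (∑ j ∈ Finset.range N, ((-1) ^ j * (b j : ℤ)) • cls k n (Od k n (-(m + j)))) + ((-1 : ℤ) ^ N) • cls k n (Z N) := by
    intro N
    induction N with
    | zero => simp
    | succ N ih =>
      have h1 : (b N : ℤ) • cls k n (Od k n (-(m + N))) = cls k n (Z (N + 1)) + cls k n (Z N) := by
        rw [natCast_zsmul]
        exact (clSub_sum (Od k n (-(m + N))) (fun c => PnRes.isCoh_sum c _) (isCoh_Od _) (b N)).symm.trans
          (clSub_shortExact (hS N) (hc (N + 1)) (PnRes.isCoh_sum (b N) _) (hc N))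
      have h2 : cls k n (Z N) = (b N : ℤ) • cls k n (Od k n (-(m + N))) - cls k n (Z (N + 1)) :=
        eq_sub_of_add_eq' h1.symm
      rw [ih, h2, Finset.sum_range_succ, pow_succ, smul_sub, smul_smul, mul_neg_one, neg_smul]
      abel
  have hn := key (n + 1)
  rwa [show cls k n (Z (n + 1)) = 0 from clSub_zero (hz _ le_rfl) (hc _), smul_zero, add_zero] at hn

theorem reg_Od (d m : ℤ) (h : 0 ≤ d + m) : Reg (Od k n) (Od k n d) m := fun i hi => by
  obtain ⟨u⟩ := (setup k n).fam.add d (m - i)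
  exact H10Coh.Tw.subsingleton_of_iso u.symm (van_Od _ i (by omega) (by omega))

variable (k n)

/-- The subgroup generated by the standard twists. -/
def span : AddSubgroup (KZero.K0sub (fun M : (CohB1.ProjSpace n k).Modules => Coh.IsCoh M)) :=
  (AddMonoidHom.mk' (fun a : Fin (n + 1) → ℤ => ∑ i : Fin (n + 1), a i • cls k n (Od k n (-((i : ℕ) : ℤ))))
    (fun a b => by simp [add_smul, Finset.sum_add_distrib])).range

variable {k n}

theorem low_mem (i : ℕ) (hi : i ≤ n) : cls k n (Od k n (-(i : ℤ))) ∈ span k n := by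
  refine ⟨Pi.single (M := fun _ : Fin (n + 1) => ℤ) ⟨i, Nat.lt_succ_of_le hi⟩ 1, ?_⟩
  simp only [AddMonoidHom.mk'_apply]
  rw [Finset.sum_eq_single ⟨i, Nat.lt_succ_of_le hi⟩ (fun j _ hj => by simp [hj]) (by simp)]
  simp

theorem Od_mem (d : ℤ) : cls k n (Od k n d) ∈ span k n := by
  have hup : ∀ e : ℤ, 0 ≤ e → cls k n (Od k n e) ∈ span k n := fun e he => by
    obtain ⟨b, hb⟩ := cls_regular (isCoh_Od (k := k) (n := n) e) (reg_Od (k := k) (n := n) e 0 (by omega))
    rw [hb]
    refine sum_mem fun j hj => zsmul_mem ?_ _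
    rw [zero_add]
    exact low_mem j (by simpa [Nat.lt_succ_iff] using hj)
  suffices H : ∀ s : ℕ, ∀ e : ℤ, -(s : ℤ) ≤ e → cls k n (Od k n e) ∈ span k n from H d.natAbs d (by omega)
  intro s
  induction s with
  | zero => exact fun e he => hup e (by omega)
  | succ s ih =>
    intro e he
    rcases lt_or_ge e (-(s : ℤ)) with hlt | hge
    swap
    · exact ih e hge
    by_cases hen : -(n : ℤ) ≤ e
    · obtain ⟨i, rfl⟩ : ∃ i : ℕ, e = -(i : ℤ) := ⟨e.natAbs, by omega⟩
      exact low_mem i (by omega)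
    -- express the lowest twist through the higher ones
    obtain ⟨d', rfl⟩ : ∃ d', e = d' - ((n : ℤ) + 1) := ⟨e + (n + 1), by ring⟩
    obtain ⟨b, hb⟩ := cls_regular (isCoh_Od (k := k) (n := n) d') (reg_Od (k := k) (n := n) d' (1 - d') (by omega))
    obtain ⟨f, hf⟩ := exists_hom (k := k) (n := n) (-d')
    have hbn : (b n : ℤ) = 1 := by
      have h1 := congrArg f hb
      rw [hf, map_sum, Finset.sum_eq_single n, map_zsmul, hf] at h1
      · rw [show d' + -d' = 0 by ring, show -(1 - d' + (n : ℤ)) + -d' = -((n : ℤ) + 1) by ring, E_bot, smul_eq_mul] at h1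
        have h2 : ((b n : ℤ) - 1) * E k n 0 = 0 := by
          have h3 : ((-1 : ℤ) ^ n) * ((-1) ^ n) = 1 := by rw [← mul_pow]; simp
          linear_combination (b n : ℤ) * E k n 0 * (-h3) - h1
        rcases mul_eq_zero.1 h2 with h | h
        · omega
        · exact absurd h E_zero_pos.ne'
      · intro j hj hjn
        rw [map_zsmul, hf, show -(1 - d' + (j : ℤ)) + -d' = -((j + 1 : ℕ) : ℤ) by push_cast; ring,
          E_eq_zero (j + 1) (by omega) (by have := Finset.mem_range.1 hj; omega), smul_zero]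
      · simp
    rw [Finset.sum_range_succ, hbn, mul_one, show -(1 - d' + (n : ℤ)) = d' - ((n : ℤ) + 1) by ring] at hb
    have hS : ((-1 : ℤ) ^ n) • cls k n (Od k n (d' - ((n : ℤ) + 1))) ∈ span k n := by
      rw [← sub_eq_of_eq_add' hb]
      refine sub_mem (ih d' (by omega)) (sum_mem fun j hj => zsmul_mem (ih _ ?_) _)
      have := Finset.mem_range.1 hj
      omega
    have h4 := zsmul_mem hS ((-1 : ℤ) ^ n)
    rwa [smul_smul, ← mul_pow, neg_one_mul, neg_neg, one_pow, one_smul] at h4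

theorem surjective : Function.Surjective
    fun a : Fin (n + 1) → ℤ => ∑ i : Fin (n + 1), a i • cls k n (Od k n (-((i : ℕ) : ℤ))) := by
  have htop : span k n = ⊤ := closure_eq_top _ fun M hM => by
    obtain ⟨m, hm⟩ := PnRes.exists_reg hM
    obtain ⟨b, hb⟩ := cls_regular hM hm
    show cls k n M ∈ _
    rw [hb]
    exact sum_mem fun j _ => zsmul_mem (Od_mem _) _
  intro x
  obtain ⟨a, ha⟩ := (htop ▸ AddSubgroup.mem_top x : x ∈ span k n)
  exact ⟨a, ha⟩

theorem injective : Function.Injective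
    fun a : Fin (n + 1) → ℤ => ∑ i : Fin (n + 1), a i • cls k n (Od k n (-((i : ℕ) : ℤ))) := by
  intro a b hab
  dsimp only at hab
  suffices H : ∀ t : ℕ, ∀ ht : t < n + 1, a ⟨t, ht⟩ = b ⟨t, ht⟩ from funext fun i => H i.1 i.2
  intro t
  induction t using Nat.strong_induction_on with
  | _ t ih =>
    intro ht
    obtain ⟨f, hf⟩ := exists_hom (k := k) (n := n) (t : ℤ)
    have h1 := congrArg f hab
    simp only [map_sum, map_zsmul, hf, smul_eq_mul] at h1
    rw [← sub_eq_zero, ← Finset.sum_sub_distrib] at h1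
    rw [Finset.sum_eq_single ⟨t, ht⟩] at h1
    · rw [show -((t : ℕ) : ℤ) + t = 0 by ring, ← sub_mul] at h1
      rcases mul_eq_zero.1 h1 with h | h
      · exact sub_eq_zero.1 h
      · exact absurd h E_zero_pos.ne'
    · intro i _ hi
      rcases lt_trichotomy (i : ℕ) t with h | h | h
      · rw [ih i h i.2, sub_self]
      · exact absurd (Fin.ext h) hi
      · rw [show -((i : ℕ) : ℤ) + t = -(((i : ℕ) - t : ℕ) : ℤ) by omega,
          E_eq_zero ((i : ℕ) - t) (by omega) (by omega)]
        ring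
    · simp

end Groth.Agent.H27KZero.PnK0
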