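import Groth.Agent.H27KZero.TrBasic
import Mathlib

/-!
# Transport of `K₀` along a fully faithful triangulated functor
-/

set_option autoImplicit false
set_option linter.style.haveILetI false

open CategoryTheory CategoryTheory.Limits CategoryTheory.Pretriangulated

namespace Groth.Agent.H27KZero.Tr

universe v v' u u'

variable {D : Type u} [Category.{v} D] [Preadditive D] [HasZeroObject D] [HasShift D ℤ]
  [∀ n : ℤ, (shiftFunctor D n).Additive] [Pretriangulated D] {P : ObjectProperty D}
  {D' : Type u'} [Category.{v'} D'] [Preadditive D'] [HasZeroObject D'] [HasShift D' ℤ]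
  [∀ n : ℤ, (shiftFunctor D' n).Additive] [Pretriangulated D'] {P' : ObjectProperty D'}

theorem exists_equiv_of_functor (F : D ⥤ D') [F.CommShift ℤ] [F.IsTriangulated] [F.Full] [F.Faithful]
    (hP : Closed P) (hP' : Closed P') (hiff : ∀ K, P' (F.obj K) ↔ P K)
    (hess : ∀ L, P' L → ∃ K, Nonempty (F.obj K ≅ L)) :
    ∃ φ : KZero.K0tr P ≃+ KZero.K0tr P', ∀ K, P K → φ (KZero.clTr P K) = KZero.clTr P' (F.obj K) := by
  classical
  let f : FreeAbelianGroup (Subtype P) →+ KZero.K0tr P' :=
    FreeAbelianGroup.lift fun K => KZero.clTr P' (F.obj K.1)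
  have hf : KZero.relTr P ≤ f.ker := by
    refine (AddSubgroup.closure_le _).mpr ?_
    rintro x ⟨T, h₁, h₂, h₃, hT, rfl⟩
    have := triangle (P := P') (F.map_distinguished T hT) ((hiff _).mpr h₁) ((hiff _).mpr h₂) ((hiff _).mpr h₃)
    simp only [SetLike.mem_coe, AddMonoidHom.mem_ker, map_sub, f, FreeAbelianGroup.lift_apply_of]
    rw [sub_sub, sub_eq_zero]
    exact this
  let φ := QuotientAddGroup.lift _ f hf
  have hφ : ∀ K, P K → φ (KZero.clTr P K) = KZero.clTr P' (F.obj K) := fun K hK => by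
    rw [KZero.clTr, dif_pos hK, QuotientAddGroup.lift_mk]
    simp [f]
  choose inv hinv using hess
  have hinvP : ∀ (L : D') (hL : P' L), P (inv L hL) := fun L hL =>
    (hiff _).mp (hP'.iso (hinv L hL).some.symm hL)
  let g : FreeAbelianGroup (Subtype P') →+ KZero.K0tr P :=
    FreeAbelianGroup.lift fun L => KZero.clTr P (inv L.1 L.2)
  have hind : ∀ (L : D') (hL : P' L) (K : D), (F.obj K ≅ L) → KZero.clTr P (inv L hL) = KZero.clTr P K :=
    fun L hL K e => cl_iso hP (F.preimageIso ((hinv L hL).some ≪≫ e.symm)) (hinvP L hL)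
  have hg : KZero.relTr P' ≤ g.ker := by
    refine (AddSubgroup.closure_le _).mpr ?_
    rintro x ⟨T, h₁, h₂, h₃, hT, rfl⟩
    obtain ⟨Z, p, q, hZ⟩ := distinguished_cocone_triangle
      (F.preimage ((hinv _ h₁).some.hom ≫ T.mor₁ ≫ (hinv _ h₂).some.inv))
    have hT' := F.map_distinguished _ hZ
    have hcomm : F.map (F.preimage ((hinv _ h₁).some.hom ≫ T.mor₁ ≫ (hinv _ h₂).some.inv)) ≫ (hinv _ h₂).some.hom =
        (hinv _ h₁).some.hom ≫ T.mor₁ := by
      rw [Functor.map_preimage]
      simp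
    let e := isoTriangleOfIso₁₂ _ _ hT' hT (hinv _ h₁).some (hinv _ h₂).some hcomm
    have e₃ : F.obj Z ≅ T.obj₃ := Triangle.π₃.mapIso e
    have hPZ : P Z := (hiff _).mp (hP'.iso e₃.symm h₃)
    have := triangle (P := P) hZ (hinvP _ h₁) (hinvP _ h₂) hPZ
    simp only [SetLike.mem_coe, AddMonoidHom.mem_ker, map_sub, g, FreeAbelianGroup.lift_apply_of]
    rw [sub_sub, sub_eq_zero, hind _ h₃ Z e₃]
    exact this
  let ψ := QuotientAddGroup.lift _ g hg
  have hψ : ∀ L (hL : P' L), ψ (KZero.clTr P' L) = KZero.clTr P (inv L hL) := fun L hL => by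
    rw [KZero.clTr, dif_pos hL, QuotientAddGroup.lift_mk]
    simp [g]
  refine ⟨AddEquiv.ofBijective φ ⟨?_, ?_⟩, hφ⟩
  · refine Function.LeftInverse.injective (g := ψ) fun x => ?_
    obtain ⟨x, rfl⟩ := QuotientAddGroup.mk_surjective x
    induction x using FreeAbelianGroup.induction_on with
    | zero => simp
    | of K =>
      obtain ⟨K, hK⟩ := K
      have e : (QuotientAddGroup.mk (FreeAbelianGroup.of ⟨K, hK⟩) : KZero.K0tr P) = KZero.clTr P K := by
        rw [KZero.clTr, dif_pos hK]
      rw [e, hφ K hK, hψ _ ((hiff _).mpr hK), hind _ _ K (Iso.refl _)]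
    | neg a ha => rw [QuotientAddGroup.mk_neg, map_neg, map_neg, ha]
    | add a b ha hb => rw [QuotientAddGroup.mk_add, map_add, map_add, ha, hb]
  · refine Function.RightInverse.surjective (g := ψ) fun x => ?_
    obtain ⟨x, rfl⟩ := QuotientAddGroup.mk_surjective x
    induction x using FreeAbelianGroup.induction_on with
    | zero => simp
    | of L =>
      obtain ⟨L, hL⟩ := L
      have e : (QuotientAddGroup.mk (FreeAbelianGroup.of ⟨L, hL⟩) : KZero.K0tr P') = KZero.clTr P' L := by
        rw [KZero.clTr, dif_pos hL]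
      rw [e, hψ L hL, hφ _ (hinvP L hL), cl_iso hP' (hinv L hL).some ((hiff _).mpr (hinvP L hL))]
    | neg a ha => rw [QuotientAddGroup.mk_neg, map_neg, map_neg, ha]
    | add a b ha hb => rw [QuotientAddGroup.mk_add, map_add, map_add, ha, hb]

end Groth.Agent.H27KZero.Tr
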